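import Cfsg.Agent.Lib.CuspidalGL.Primary
import Cfsg.Agent.Lib.SteinbergValues.Value

/-! The cuspidal class functions: generalized characters, degree, cuspidality. -/

set_option autoImplicit false

namespace CfsgLib.CuspidalGL

open Module Finset Polynomial CfsgLib.SteinbergValues

attribute [local instance] finite_linearMap

variable {F : Type*} [Field F]

/-- Endomorphisms of an invariant family as a homomorphism to matrices. -/
noncomputable def toGLHom {G : Type*} [Group G] {W : Type*} [AddCommGroup W] [Module F W] {m : ℕ}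
    (b : Basis (Fin m) F W) (ρ : G →* End F W) : G →* GL (Fin m) F :=
  ((LinearMap.toMatrixAlgEquiv b : End F W →ₐ[F] Matrix (Fin m) (Fin m) F).toMonoidHom.comp ρ).toHomUnits

theorem charpoly_toGLHom {G : Type*} [Group G] {W : Type*} [AddCommGroup W] [Module F W] [Module.Finite F W]
    {m : ℕ}
    (b : Basis (Fin m) F W) (ρ : G →* End F W) (g : G) :
    ((toGLHom b ρ g : GL (Fin m) F) : Matrix (Fin m) (Fin m) F).charpoly = (@id (End F W) (ρ g)).charpoly := by
  exact LinearMap.charpoly_toMatrix _ b

theorem toLin'_toGLHom {G : Type*} [Group G] {W : Type*} [AddCommGroup W] [Module F W] {m : ℕ}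
    (b : Basis (Fin m) F W) (ρ : G →* End F W) (g : G) (w : W) :
    Matrix.toLin' ((toGLHom b ρ g : GL (Fin m) F) : Matrix (Fin m) (Fin m) F) (b.equivFun w) = b.equivFun (ρ g w) := by
  show Matrix.toLin' (LinearMap.toMatrix b b (ρ g)) (⇑(b.repr w)) = ⇑(b.repr (ρ g w))
  rw [Matrix.toLin'_apply, LinearMap.toMatrix_mulVec_repr]

variable {V : Type*} [AddCommGroup V] [Module F V] [Finite V]

theorem charOn_map {g g' : End F V} {π : V ≃ₗ[F] V} (hπg : ∀ v, π (g v) = g' (π v)) {W : Submodule F V}
    (hW : W ∈ invs g) : charOn g' (W.map π.toLinearMap) = charOn g W := by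
  have hW' : W.map π.toLinearMap ∈ invs g' := map_mem_invs hπg hW
  rw [charOn_eq (mem_invs.1 hW'), charOn_eq (mem_invs.1 hW), ← LinearEquiv.charpoly_conj (π.submoduleMap W)]
  congr 1
  refine LinearMap.ext fun v => Subtype.ext ?_
  obtain ⟨w, rfl⟩ := (π.submoduleMap W).surjective v
  simp [LinearEquiv.conj_apply, hπg]

variable [Fintype F] [DecidableEq F] {L : Type*} [Field L] [Fintype L] [Algebra F L] {n : ℕ}

/-- The linear map of a matrix. -/
noncomputable abbrev act (g : GL (Fin n) F) : End F (Fin n → F) :=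
  Matrix.toLin' (g : Matrix (Fin n) (Fin n) F)

/-- The cuspidal class function. -/
noncomputable def cusp (θ : MulChar L ℂ) (g : GL (Fin n) F) : ℂ := (-1) ^ (n - 1) * lusztigSum θ (act g)

/-- The stabilizer of a subspace. -/
noncomputable def stab (p : Submodule F (Fin n → F)) : Subgroup (GL (Fin n) F) where
  carrier := {g | p.map (act g) = p}
  one_mem' := by simp [act, Matrix.toLin'_one]
  mul_mem' := fun {a b} ha hb => by
    show p.map (act (a * b)) = p
    rw [act, toLin'_mul_GL, Submodule.map_comp, hb, ha]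
  inv_mem' := fun {a} ha => by
    show p.map (act a⁻¹) = p
    conv_lhs => rw [← show p.map (act a) = p from ha]
    rw [← Submodule.map_comp, act, act, ← toLin'_mul_GL, inv_mul_cancel, Units.val_one, Matrix.toLin'_one,
      Submodule.map_id]

/-- The equivalence of a group element. -/
noncomputable def actEquiv (g : GL (Fin n) F) : (Fin n → F) ≃ₗ[F] (Fin n → F) :=
  LinearEquiv.ofBijective (act g) ⟨injective_toLin'_GL g, LinearMap.surjective_of_injective (injective_toLin'_GL g)⟩

theorem exists_map_eq {m : ℕ} {p W : Submodule F (Fin n → F)} (hp : finrank F p = m) (hW : finrank F W = m) :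
    ∃ x : GL (Fin n) F, p.map (act x) = W := by
  obtain ⟨p', hp'⟩ := p.exists_isCompl
  obtain ⟨W', hW'⟩ := W.exists_isCompl
  obtain ⟨e1⟩ := FiniteDimensional.nonempty_linearEquiv_of_finrank_eq (R := F) (M := p) (M' := W) (hp.trans hW.symm)
  obtain ⟨e2⟩ := FiniteDimensional.nonempty_linearEquiv_of_finrank_eq (R := F) (M := p') (M' := W') (by
    have h1 := Submodule.finrank_add_eq_of_isCompl hp'
    have h2 := Submodule.finrank_add_eq_of_isCompl hW'
    omega)
  let E := ((Submodule.prodEquivOfIsCompl p p' hp').symm.trans (e1.prodCongr e2)).trans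
    (Submodule.prodEquivOfIsCompl W W' hW')
  have hu : IsUnit (LinearMap.toMatrix' (E : (Fin n → F) →ₗ[F] (Fin n → F))) := by
    rw [Matrix.isUnit_iff_isUnit_det, LinearMap.det_toMatrix']
    exact E.isUnit_det'
  refine ⟨hu.unit, ?_⟩
  rw [act, IsUnit.unit_spec, Matrix.toLin'_toMatrix']
  refine Submodule.eq_of_le_of_finrank_eq ?_ ?_
  · rintro _ ⟨v, hv, rfl⟩
    show E v ∈ W
    simp [E, Submodule.prodEquivOfIsCompl_symm_apply_left p p' hp' ⟨v, hv⟩]
  · rw [show (E : (Fin n → F) →ₗ[F] (Fin n → F)) = E.toLinearMap from rfl, LinearEquiv.finrank_map_eq, hp, hW]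

/-- The summand of a given dimension. -/
noncomputable def layer (θ : MulChar L ℂ) (m : ℕ) (g : GL (Fin n) F) : ℂ :=
  ∑ W ∈ (invs (act g)).filter (fun W : Submodule F (Fin n → F) => finrank F W = m), (mu (act g) W : ℂ) * liftPoly θ (charOn (act g) W)

theorem lusztigSum_eq_layers (θ : MulChar L ℂ) (g : GL (Fin n) F) :
    lusztigSum θ (act g) = ∑ m ∈ range (n + 1), layer θ m g := by
  simp only [layer, lusztigSum]
  rw [Finset.sum_fiberwise_of_maps_to]
  intro W _
  rw [Finset.mem_range]
  exact Nat.lt_succ_of_le (W.finrank_le.trans_eq (finrank_fin_fun F))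

theorem isGeneralizedCharacter_layer (θ : MulChar L ℂ) (hθ : Function.Injective fun a : Lˣ => θ (a : L)) {N : ℕ}
    (hL : Nat.card L = Nat.card F ^ N) (hN : ∀ d, 1 ≤ d → d ≤ n → d ∣ N) {m : ℕ} (hm : m ≤ n) :
    Cfsg.IsGeneralizedCharacter (GL (Fin n) F) (layer θ m) := by
  classical
  set p := stdSub F n m with hpdef
  have hp : finrank F p = m := finrank_stdSub hm
  set P := stab p
  have hinvP : ∀ h : P, ∀ v ∈ p, act (h : GL (Fin n) F) v ∈ p := fun h v hv => by
    conv => arg 1; rw [← show p.map (act (h : GL (Fin n) F)) = p from h.2]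
    exact Submodule.mem_map_of_mem hv
  let ρ1 : P →* End F p :=
    { toFun := fun h => (act (h : GL (Fin n) F)).restrict (hinvP h)
      map_one' := by ext v; simp [act, Matrix.toLin'_one]
      map_mul' := fun a b => by
        refine LinearMap.ext fun v => Subtype.ext ?_
        show act ((a : GL (Fin n) F) * (b : GL (Fin n) F)) (v : Fin n → F) = act (a : GL (Fin n) F) (act (b : GL (Fin n) F) v)
        rw [act, toLin'_mul_GL]
        rfl }
  let ρ2 : P →* End F ((Fin n → F) ⧸ p) :=
    { toFun := fun h => p.mapQ p (act (h : GL (Fin n) F)) (hinvP h)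
      map_one' := by
        refine LinearMap.ext fun x => ?_
        obtain ⟨v, rfl⟩ := p.mkQ_surjective x
        simp [act, Matrix.toLin'_one]
      map_mul' := fun a b => by
        refine LinearMap.ext fun x => ?_
        obtain ⟨v, rfl⟩ := p.mkQ_surjective x
        show Submodule.Quotient.mk (act ((a : GL (Fin n) F) * (b : GL (Fin n) F)) v) =
          Submodule.Quotient.mk (act (a : GL (Fin n) F) (act (b : GL (Fin n) F) v))
        rw [act, toLin'_mul_GL]
        rfl }
  let b1 : Basis (Fin m) F p := (finBasis F p).reindex (finCongr hp)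
  have hq : finrank F ((Fin n → F) ⧸ p) = n - m := by
    have := p.finrank_quotient_add_finrank
    rw [finrank_fin_fun] at this
    omega
  let b2 : Basis (Fin (n - m)) F ((Fin n → F) ⧸ p) := (finBasis F _).reindex (finCongr hq)
  let φ : P → ℂ := fun h => (mu (act (h : GL (Fin n) F)) p : ℂ) * liftPoly θ (charOn (act (h : GL (Fin n) F)) p)
  have hφ : Cfsg.IsGeneralizedCharacter P φ := by
    have h1 := CfsgLib.Char.IsGeneralizedCharacter.comp
      (isGeneralizedCharacter_lift (m := m) θ hθ hL (fun d h1 h2 => hN d h1 (h2.trans hm))) (toGLHom b1 ρ1)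
    have h2 := CfsgLib.Char.IsGeneralizedCharacter.comp
      (CfsgLib.GLFlags.isGeneralizedCharacter_unipotent (F := F) (fun _ : Fin (n - m) => 1)) (toGLHom b2 ρ2)
    have h3 := CfsgLib.Char.IsGeneralizedCharacter.intCast_smul
      (CfsgLib.Char.IsGeneralizedCharacter.mul h2 h1) ((-1) ^ (n - m))
    suffices heq : φ = _ by rw [heq]; exact h3
    funext h
    simp only [Pi.smul_apply, Pi.mul_apply, Function.comp_apply, smul_eq_mul]
    rw [steinberg_eq_altTop, charpoly_toGLHom, ← mul_assoc]
    show (mu _ p : ℂ) * _ = _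
    congr 1
    · have hker : LinearMap.ker (b2.equivFun.toLinearMap.comp p.mkQ) = p := by
        rw [LinearEquiv.ker_comp, Submodule.ker_mkQ]
      rw [mu_map (g' := Matrix.toLin' ((toGLHom b2 ρ2 h : GL (Fin (n - m)) F) : Matrix (Fin (n - m)) (Fin (n - m)) F))
        (π := b2.equivFun.toLinearMap.comp p.mkQ)
        (b2.equivFun.surjective.comp p.mkQ_surjective)
        (fun v => by
          show b2.equivFun _ = Matrix.toLin' _ (b2.equivFun _)
          rw [toLin'_toGLHom]
          rfl) (mem_invs.2 (hinvP h)) hker.le]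
      rw [show p.map (b2.equivFun.toLinearMap.comp p.mkQ) = ⊥ by
        rw [Submodule.map_comp, Submodule.mkQ_map_self, Submodule.map_bot], mu, finrank_bot, finrank_fin_fun,
        Nat.sub_zero]
      push_cast
      ring
    · rw [charOn_eq (hinvP h)]
      rfl
  have hlayer : layer θ m = Cfsg.indFun P φ := by
    funext g
    rw [CfsgLib.Char.indFun_apply]
    have hterm : ∀ x : GL (Fin n) F, Cfsg.extendByZero P φ (x⁻¹ * g * x) =
        if p.map (act x) ∈ invs (act g) then
          (mu (act g) (p.map (act x)) : ℂ) * liftPoly θ (charOn (act g) (p.map (act x))) else 0 := by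
      intro x
      set h := x⁻¹ * g * x with hh
      have hπ : ∀ v, actEquiv x (act h v) = act g (actEquiv x v) := fun v => by
        show act x (act h v) = act g (act x v)
        rw [← LinearMap.comp_apply, ← LinearMap.comp_apply, act, act, act, ← toLin'_mul_GL, ← toLin'_mul_GL, hh]
        simp [mul_assoc]
      have hiff : h ∈ P ↔ p.map (act x) ∈ invs (act g) := by
        constructor
        · intro hP
          exact map_mem_invs (π := (actEquiv x).toLinearMap) hπ (mem_invs.2 (hinvP ⟨h, hP⟩))
        · intro hW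
          refine map_eq_of_le fun v hv => ?_
          have h1 : act g (actEquiv x v) ∈ p.map (act x) := mem_invs.1 hW _ ⟨v, hv, rfl⟩
          rw [← hπ] at h1
          obtain ⟨w, hw, hwv⟩ := h1
          rwa [← (actEquiv x).injective hwv]
      split_ifs with hW
      · rw [CfsgLib.Char.extendByZero_apply_mem P φ (hiff.2 hW)]
        have hp' : p ∈ invs (act h) := mem_invs.2 (hinvP ⟨h, hiff.2 hW⟩)
        show (mu (act h) p : ℂ) * liftPoly θ (charOn (act h) p) = _
        rw [mu_map (π := (actEquiv x).toLinearMap) (actEquiv x).surjective hπ hp' (by simp),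
          ← charOn_map (π := actEquiv x) hπ hp']
        rfl
      · exact CfsgLib.Char.extendByZero_of_notMem P φ (fun hP => hW (hiff.1 hP))
    rw [Finset.sum_congr rfl (fun x _ => hterm x),
      ← Finset.sum_fiberwise_of_maps_to
        (t := Finset.univ.image (fun x : GL (Fin n) F => p.map (act x))) (g := fun x => p.map (act x))
        (fun x _ => Finset.mem_image_of_mem _ (Finset.mem_univ x)), Finset.mul_sum]
    have himg : (invs (act g)).filter (fun W : Submodule F (Fin n → F) => finrank F W = m) =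
        (Finset.univ.image (fun x : GL (Fin n) F => p.map (act x))).filter (fun W => W ∈ invs (act g)) := by
      ext W
      simp only [Finset.mem_filter, Finset.mem_image, Finset.mem_univ, true_and]
      constructor
      · rintro ⟨h1, h2⟩
        exact ⟨exists_map_eq hp h2, h1⟩
      · rintro ⟨⟨x, rfl⟩, h1⟩
        exact ⟨h1, by rw [← (Submodule.equivMapOfInjective _ (injective_toLin'_GL x) p).finrank_eq, hp]⟩
    rw [layer, himg, Finset.sum_filter]
    refine Finset.sum_congr rfl fun W hW => ?_
    obtain ⟨x0, -, rfl⟩ := Finset.mem_image.1 hW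
    rw [Finset.sum_congr rfl (g := fun _ => if p.map (act x0) ∈ invs (act g) then
      (mu (act g) (p.map (act x0)) : ℂ) * liftPoly θ (charOn (act g) (p.map (act x0))) else 0)
      (fun x hx => by rw [(Finset.mem_filter.1 hx).2]), Finset.sum_const, nsmul_eq_mul, ← mul_assoc]
    have hfib : (Finset.univ.filter (fun x : GL (Fin n) F => p.map (act x) = p.map (act x0))).card = Nat.card P := by
      rw [← Fintype.card_subtype, ← Nat.card_eq_fintype_card]
      refine Nat.card_congr ((Equiv.mulLeft x0).symm.subtypeEquiv fun x => ?_)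
      show p.map (act x) = p.map (act x0) ↔ p.map (act (x0⁻¹ * x)) = p
      rw [act, act, act, toLin'_mul_GL, Submodule.map_comp]
      constructor
      · intro h
        rw [h, ← Submodule.map_comp, ← toLin'_mul_GL, inv_mul_cancel, Units.val_one, Matrix.toLin'_one, Submodule.map_id]
      · intro h
        conv_rhs => rw [← h]
        rw [← Submodule.map_comp, ← toLin'_mul_GL, mul_inv_cancel, Units.val_one, Matrix.toLin'_one, Submodule.map_id]
    rw [hfib, inv_mul_cancel₀ (Nat.cast_ne_zero.2 Nat.card_pos.ne'), one_mul]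
  rw [hlayer]
  exact CfsgLib.Char.IsGeneralizedCharacter.indFun P hφ

theorem isGeneralizedCharacter_cusp (θ : MulChar L ℂ) (hθ : Function.Injective fun a : Lˣ => θ (a : L)) {N : ℕ}
    (hL : Nat.card L = Nat.card F ^ N) (hN : ∀ d, 1 ≤ d → d ≤ n → d ∣ N) :
    Cfsg.IsGeneralizedCharacter (GL (Fin n) F) (cusp θ) := by
  classical
  have h := CfsgLib.Char.IsGeneralizedCharacter.intCast_smul
    (CfsgLib.Char.IsGeneralizedCharacter.sum (Finset.range (n + 1)) (fun m => layer (n := n) θ m)
      fun m hm => isGeneralizedCharacter_layer θ hθ hL hN (Nat.lt_succ_iff.1 (Finset.mem_range.1 hm))) ((-1) ^ (n - 1))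
  suffices heq : cusp (n := n) θ = _ by rw [heq]; exact h
  funext g
  simp [cusp, lusztigSum_eq_layers, Finset.sum_apply]

theorem liftPoly_X_sub_one (θ : MulChar L ℂ) : liftPoly θ (X - C (1 : F)) = 1 := by
  classical
  rw [liftPoly, Polynomial.map_sub, map_X, map_C, map_one, Finset.sum_eq_single (1 : L)]
  · rw [rootMultiplicity_X_sub_C_self, Nat.cast_one, one_mul, map_one]
  · intro a _ ha
    rw [rootMultiplicity_eq_zero (by simp [sub_eq_zero, ha]), Nat.cast_zero, zero_mul]
  · exact fun h => absurd (Finset.mem_univ _) h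

theorem act_one : act (1 : GL (Fin n) F) = 1 := by
  rw [act, Units.val_one, Matrix.toLin'_one]
  rfl

/-- The value at an element with square-zero `g - 1`. -/
theorem cusp_unipotent (θ : MulChar L ℂ) (hn : 1 ≤ n) (g : GL (Fin n) F) {k : ℕ} (hk : (act g - 1) ^ k = 0) :
    cusp θ g = (-1) ^ (n - 1) * (pval (Fintype.card F) (finrank F (LinearMap.ker (act g - 1)) - 1) : ℂ) := by
  have hmon : (X - C (1 : F)).Monic := monic_X_sub_C 1
  have hf := irreducible_X_sub_C (1 : F)
  have hfX : ¬ (X - C (1 : F)) ∣ X := by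
    rw [dvd_iff_isRoot]
    simp
  have hT : aeval (act g) (X - C (1 : F)) = act g - 1 := by simp
  obtain ⟨j, hj, -, hjd⟩ := charpoly_eq_pow hmon hf (k := k) (g := act g) (by rw [hT, hk])
  rw [natDegree_X_sub_C, one_mul, finrank_fin_fun] at hjd
  obtain ⟨l, hl, hv⟩ := lusztigSum_primary θ hmon hf hfX hj (by omega)
  rw [natDegree_X_sub_C, one_mul, hT] at hl
  rw [cusp, hv, liftPoly_X_sub_one, mul_one, ← hl, Nat.add_sub_cancel, natDegree_X_sub_C, pow_one,
    Nat.card_eq_fintype_card]
  rfl

theorem cusp_one (θ : MulChar L ℂ) (hn : 1 ≤ n) :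
    cusp θ (1 : GL (Fin n) F) = ∏ i ∈ Finset.Ico 1 n, ((Fintype.card F : ℂ) ^ i - 1) := by
  rw [cusp_unipotent θ hn 1 (k := 1) (by rw [act_one, sub_self, pow_one]), act_one, sub_self, LinearMap.ker_zero,
    finrank_top, finrank_fin_fun, pval, Finset.prod_Ico_eq_prod_range, Int.cast_prod]
  conv_lhs => arg 1; rw [← Finset.card_range (n - 1), ← Finset.prod_const]
  rw [← Finset.prod_mul_distrib]
  refine Finset.prod_congr rfl fun i _ => ?_
  push_cast
  rw [add_comm 1 i]
  ring

/-- Cuspidality. -/
theorem cusp_sum_radical (θ : MulChar L ℂ) {m : ℕ} (h0 : 0 < m) (h1 : m < n)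
    [DecidablePred fun g : GL (Fin n) F => ∀ i j : Fin n, ¬ (i.val < m ∧ m ≤ j.val) →
      (g : Matrix (Fin n) (Fin n) F) i j = (1 : Matrix (Fin n) (Fin n) F) i j] :
    (∑ g : GL (Fin n) F,
      if (∀ i j : Fin n, ¬ (i.val < m ∧ m ≤ j.val) →
          (g : Matrix (Fin n) (Fin n) F) i j = (1 : Matrix (Fin n) (Fin n) F) i j)
      then cusp θ g else 0) = 0 := by
  classical
  set p := stdSub F n m with hpdef
  obtain ⟨p', hc⟩ := p.exists_isCompl
  have : Fintype (p' →ₗ[F] p) := Fintype.ofFinite _
  set cond : GL (Fin n) F → Prop := fun g => ∀ i j : Fin n, ¬ (i.val < m ∧ m ≤ j.val) →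
      (g : Matrix (Fin n) (Fin n) F) i j = (1 : Matrix (Fin n) (Fin n) F) i j
  have hcond : ∀ g, cond g ↔ (∀ v ∈ p, (act g - 1) v = 0) ∧ ∀ v, (act g - 1) v ∈ p := by
    intro g
    have hN : ∀ v i, (act g - 1) v i =
        ∑ j, ((g : Matrix (Fin n) (Fin n) F) i j - (1 : Matrix (Fin n) (Fin n) F) i j) * v j := by
      intro v i
      rw [LinearMap.sub_apply, Pi.sub_apply, End.one_apply, act, Matrix.toLin'_apply, Matrix.mulVec, dotProduct]
      simp [sub_mul, Finset.sum_sub_distrib, Matrix.one_apply]
    constructor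
    · intro hg
      refine ⟨fun v hv => funext fun i => ?_, fun v => mem_stdSub.2 fun i hi => ?_⟩
      · rw [hN, Pi.zero_apply]
        refine Finset.sum_eq_zero fun j _ => ?_
        rcases lt_or_ge (j : ℕ) m with h | h
        · rw [hg i j (fun h' => by omega), sub_self, zero_mul]
        · rw [mem_stdSub.1 hv j h, mul_zero]
      · rw [hN]
        exact Finset.sum_eq_zero fun j _ => by rw [hg i j (fun h' => by omega), sub_self, zero_mul]
    · rintro ⟨hg1, hg2⟩ i j hij
      have hs : (act g - 1) (Pi.single j 1) i =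
          (g : Matrix (Fin n) (Fin n) F) i j - (1 : Matrix (Fin n) (Fin n) F) i j := by
        rw [hN, Finset.sum_eq_single j (fun k _ hk => by rw [Pi.single_eq_of_ne hk, mul_zero])
          (fun h => absurd (Finset.mem_univ _) h), Pi.single_eq_same, mul_one]
      rw [← sub_eq_zero, ← hs]
      rcases lt_or_ge (i : ℕ) m with hi | hi
      · have hj : (j : ℕ) < m := by
          by_contra hj
          exact hij ⟨hi, not_lt.1 hj⟩
        have hmem : Pi.single j (1 : F) ∈ p :=
          mem_stdSub.2 fun k hk => Pi.single_eq_of_ne (fun e => by subst e; omega) _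
        exact congrFun (hg1 _ hmem) i
      · exact mem_stdSub.1 (hg2 _) i hi
  have hsq : ∀ g, cond g → (act g - 1) ^ 2 = 0 := fun g hg => LinearMap.ext fun v => by
    rw [pow_two, End.mul_apply]
    exact ((hcond g).1 hg).1 _ (((hcond g).1 hg).2 v)
  refine Eq.trans (show _ = ∑ g : GL (Fin n) F, if cond g then cusp θ g else 0 from
    Finset.sum_congr rfl fun g _ => by split_ifs <;> first | rfl | contradiction) ?_
  rw [← Finset.sum_filter]
  have hunit : ∀ X : p' →ₗ[F] p, IsUnit (LinearMap.toMatrix' (1 + glue hc 0 X)) := fun X => by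
    have h : IsUnit (1 + glue hc 0 X) := ((isNilpotent_glue_iff hc 0 X).2 IsNilpotent.zero).isUnit_one_add
    exact h.map (LinearMap.toMatrixAlgEquiv' (R := F) (n := Fin n))
  have key : ∑ g ∈ Finset.univ.filter cond, cusp θ g =
      ∑ X : p' →ₗ[F] p, cusp θ (hunit X).unit := by
    symm
    have hact : ∀ X, act (hunit X).unit = 1 + glue hc 0 X := fun X => by
      rw [act, IsUnit.unit_spec, Matrix.toLin'_toMatrix']
    refine Finset.sum_bij (fun X _ => (hunit X).unit) ?_ ?_ ?_ (fun X _ => rfl)
    · intro X _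
      rw [Finset.mem_filter]
      refine ⟨Finset.mem_univ _, (hcond _).2 ⟨fun v hv => ?_, fun v => ?_⟩⟩
      · rw [hact, add_sub_cancel_left, glue_apply_left hc 0 X ⟨v, hv⟩]
        simp
      · rw [hact, add_sub_cancel_left]
        exact range_glue_le hc 0 X ⟨v, rfl⟩
    · intro X _ Y _ h
      have h1 := congrArg act h
      rw [hact, hact, add_left_cancel_iff] at h1
      refine LinearMap.ext fun w => Subtype.ext ?_
      rw [← glue_apply_right hc 0 X w, h1, glue_apply_right]
    · intro g hg
      obtain ⟨hg1, hg2⟩ := (hcond g).1 (Finset.mem_filter.1 hg).2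
      refine ⟨((act g - 1).domRestrict p').codRestrict p fun w => hg2 w, Finset.mem_univ _, ?_⟩
      apply Units.ext
      apply Matrix.toLin'.injective
      show act _ = act g
      rw [hact]
      refine LinearMap.ext fun v => ?_
      obtain ⟨a, ha, b, hb, rfl⟩ := Submodule.mem_sup.1 (hc.sup_eq_top ▸ Submodule.mem_top (x := v))
      rw [map_add, map_add, LinearMap.add_apply, LinearMap.add_apply, glue_apply_left hc 0 _ ⟨a, ha⟩,
        glue_apply_right hc 0 _ ⟨b, hb⟩]
      have ha1 : act g a = a := by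
        have := hg1 a ha
        rwa [LinearMap.sub_apply, End.one_apply, sub_eq_zero] at this
      simp [ha1]
      show b + (act g b - b) = act g b
      abel
  rw [key]
  have hval : ∀ X : p' →ₗ[F] p, cusp θ (hunit X).unit = (-1) ^ (n - 1) *
      (pval (Fintype.card F) (finrank F p' + finrank F p - 1 - finrank F (LinearMap.range X)) : ℂ) := by
    intro X
    have hact : act (hunit X).unit - 1 = glue hc 0 X := by
      rw [act, IsUnit.unit_spec, Matrix.toLin'_toMatrix', add_sub_cancel_left]
    obtain ⟨k, hk⟩ := (isNilpotent_glue_iff hc 0 X).2 IsNilpotent.zero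
    rw [cusp_unipotent θ (by omega) _ (by rw [hact, hk]), hact]
    congr 3
    have h1 := LinearMap.finrank_range_add_finrank_ker (glue hc 0 X)
    have h2 : LinearMap.range (glue hc 0 X) = (LinearMap.range X).map p.subtype := by
      refine le_antisymm ?_ ?_
      · rintro _ ⟨v, rfl⟩
        obtain ⟨a, ha, b, hb, rfl⟩ := Submodule.mem_sup.1 (hc.sup_eq_top ▸ Submodule.mem_top (x := v))
        refine ⟨X ⟨b, hb⟩, ⟨_, rfl⟩, ?_⟩
        rw [map_add, glue_apply_left hc 0 X ⟨a, ha⟩, glue_apply_right hc 0 X ⟨b, hb⟩]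
        simp
      · rintro _ ⟨_, ⟨w, rfl⟩, rfl⟩
        exact ⟨w, glue_apply_right hc 0 X w⟩
    rw [h2, Submodule.finrank_map_subtype_eq] at h1
    have h3 := Submodule.finrank_add_eq_of_isCompl hc
    rw [finrank_fin_fun] at h1 h3
    omega
  rw [Finset.sum_congr rfl (fun X _ => hval X), ← Finset.mul_sum, ← Int.cast_sum]
  have hp1 : 1 ≤ finrank F p := by rw [finrank_stdSub h1.le]; omega
  have hp2 : 1 ≤ finrank F p' := by
    have h3 := Submodule.finrank_add_eq_of_isCompl hc
    rw [finrank_stdSub h1.le, finrank_fin_fun] at h3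
    omega
  have : Fintype p := Fintype.ofFinite _
  have : Fintype p' := Fintype.ofFinite _
  rw [sum_pval_linearMap hp2 hp1, Int.cast_zero, mul_zero]

end CfsgLib.CuspidalGL
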