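import Cfsg.Agent.Lib.CuspidalGL.Inner

/-! Counting the cuspidal irreducible characters. -/

set_option autoImplicit false

namespace CfsgLib.CuspidalGL

open Module Finset Polynomial CfsgLib.SteinbergValues
open scoped ComplexConjugate

theorem modEq_pow_mul_cancel {q n a i j : ℕ} (hq : 1 < q) (hn : 2 ≤ n) (hi : i < n) (hj : j < n)
    (ha : a.Coprime (q ^ n - 1)) (h : a * q ^ i ≡ a * q ^ j [MOD q ^ n - 1]) : i = j := by
  have h1 : q ^ i ≡ q ^ j [MOD q ^ n - 1] := Nat.ModEq.cancel_left_of_coprime (Nat.coprime_comm.1 ha) h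
  have hlt : ∀ k, k < n → q ^ k < q ^ n - 1 := fun k hk => by
    have h2 : q ^ k ≤ q ^ (n - 1) := Nat.pow_le_pow_right (by omega) (by omega)
    have h3 : q ^ n = q ^ (n - 1) * q := by rw [← pow_succ, Nat.sub_add_cancel (by omega)]
    have h4 : q ≤ q ^ (n - 1) := Nat.le_self_pow (by omega) q
    have h6 : q ^ (n - 1) * 2 ≤ q ^ (n - 1) * q := Nat.mul_le_mul_left _ (by omega)
    omega
  have h5 : q ^ i = q ^ j := Nat.ModEq.eq_of_lt_of_lt h1 (hlt i hi) (hlt j hj)
  exact Nat.pow_right_injective hq h5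

theorem modEq_shift {q n a b i j : ℕ} (hq : 1 < q) (hj : j < n)
    (h : a * q ^ i ≡ b * q ^ j [MOD q ^ n - 1]) : b ≡ a * q ^ ((i + (n - j)) % n) [MOD q ^ n - 1] := by
  have hone : q ^ n ≡ 1 [MOD q ^ n - 1] := by
    have h1 : q ^ n = (q ^ n - 1) + 1 := (Nat.sub_add_cancel (Nat.one_le_pow _ _ (by omega))).symm
    conv_lhs => rw [h1]
    exact Nat.add_modEq_left
  have hper : ∀ e, q ^ e ≡ q ^ (e % n) [MOD q ^ n - 1] := fun e => by
    conv_lhs => rw [← Nat.div_add_mod e n, pow_add, pow_mul]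
    simpa using (hone.pow (e / n)).mul_right (q ^ (e % n))
  have h2 : b * q ^ n ≡ a * q ^ (i + (n - j)) [MOD q ^ n - 1] := by
    have h' := (h.mul_right (q ^ (n - j))).symm
    rwa [mul_assoc, ← pow_add, Nat.add_sub_cancel' hj.le, mul_assoc, ← pow_add] at h'
  have h3 : b * q ^ n ≡ b [MOD q ^ n - 1] := by simpa using hone.mul_left b
  exact (h3.symm.trans h2).trans ((hper _).mul_left a)

/-- There are at least `φ(q^n - 1)/n` cuspidal irreducible characters. -/
theorem cuspidal_count {F : Type*} [Field F] [Fintype F] [DecidableEq F] (n : ℕ) (hn : 2 ≤ n)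
    (P : Cfsg.IrrCharacter (GL (Fin n) F) → Prop)
    (hP : ∀ (L : Type) [Field L] [Fintype L] [Algebra F L] (θ : MulChar L ℂ) (χ : Cfsg.IrrCharacter (GL (Fin n) F)),
      (χ : GL (Fin n) F → ℂ) = cusp θ → P χ) :
    Nat.totient (Fintype.card F ^ n - 1) / n ≤ Nat.card {χ : Cfsg.IrrCharacter (GL (Fin n) F) // P χ} := by
  classical
  let p := ringChar F
  have := Fact.mk (CharP.char_is_prime F p)
  have : NeZero n.factorial := ⟨(Nat.factorial_pos n).ne'⟩
  let L := FiniteField.Extension F p n.factorial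
  have : Fintype L := Fintype.ofFinite _
  set q := Fintype.card F with hqdef
  have hq1 : 1 < q := Fintype.one_lt_card
  have hL : Nat.card L = Nat.card F ^ n.factorial := FiniteField.natCard_extension F p n.factorial
  have hN : ∀ d, 1 ≤ d → d ≤ n → d ∣ n.factorial := fun d h1 h2 => Nat.dvd_factorial h1 h2
  set M := Nat.card Lˣ with hMdef
  have hMval : M = q ^ n.factorial - 1 := by rw [hMdef, Nat.card_units, hL, Nat.card_eq_fintype_card]
  set M' := q ^ n - 1 with hM'def
  have hdvd : M' ∣ M := hMval ▸ Nat.pow_sub_one_dvd_pow_sub_one q (hN n (by omega) le_rfl)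
  have : NeZero M := ⟨Nat.card_pos.ne'⟩
  -- generators
  obtain ⟨ζ, hζ⟩ := IsCyclic.exists_generator (α := Lˣ)
  have hζord : orderOf ζ = M := orderOf_eq_card_of_forall_mem_zpowers hζ
  have hM'pos : 0 < M' := Nat.pos_of_dvd_of_pos hdvd Nat.card_pos
  set α : L := ((ζ ^ (M / M') : Lˣ) : L)
  have hα : SubGen F L n α := ⟨by
    show orderOf ((ζ ^ (M / M') : Lˣ) : L) = M'
    rw [orderOf_units, orderOf_pow, hζord, Nat.gcd_eq_right (Nat.div_dvd_of_dvd hdvd),
      Nat.div_div_self hdvd Nat.card_pos.ne']⟩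
  -- an injective character
  have hroots : IsPrimitiveRoot (Complex.exp (2 * Real.pi * Complex.I / M)) M :=
    Complex.isPrimitiveRoot_exp M Nat.card_pos.ne'
  let e : Lˣ ≃* rootsOfUnity M ℂ := mulEquivOfCyclicCardEq (hroots.card_rootsOfUnity).symm
  let ι : MulChar L ℂ := MulChar.ofUnitHom ((rootsOfUnity M ℂ).subtype.comp e.toMonoidHom)
  have hι : ∀ x : Lˣ, ι (x : L) = ((e x : ℂˣ) : ℂ) := fun x => MulChar.ofUnitHom_coe _ x
  have hιinj : Function.Injective fun x : Lˣ => ι (x : L) := fun x y h => by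
    simp only [hι] at h
    exact e.injective (Subtype.ext (Units.ext h))
  have hsplit : ∀ f : F[X], f.Monic → Irreducible f → f.natDegree ∣ n → ∃ β : L, aeval β f = 0 := by
    intro f hmon hf hd
    have hsp : (f.map (algebraMap F L)).Splits := by
      refine Splits.of_dvd ?_ ?_ (Polynomial.map_dvd _ (hf.natDegree_dvd_iff_dvd_X_pow_card_pow_sub_X.1
        (hd.trans (hN n (by omega) le_rfl))))
      · exact (inferInstance : IsSplittingField F L (X ^ Nat.card F ^ n.factorial - X)).splits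
      · exact Polynomial.map_ne_zero
          (FiniteField.X_pow_card_pow_sub_X_ne_zero F (Nat.factorial_pos n).ne' Finite.one_lt_card)
    obtain ⟨β, hβ⟩ := hsp.exists_eval_eq_zero (by
      rw [degree_map]
      exact (degree_pos_of_irreducible hf).ne')
    exact ⟨β, by rwa [aeval_def, ← eval_map]⟩
  -- lifting residues
  have hlift : ∀ a, a.Coprime M' → ∃ a', a'.Coprime M ∧ a' ≡ a [MOD M'] := by
    intro a ha
    obtain ⟨u, hu⟩ := ZMod.unitsMap_surjective hdvd (ZMod.unitOfCoprime a ha)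
    refine ⟨(u : ZMod M).val, ZMod.val_coe_unit_coprime u, ?_⟩
    rw [← ZMod.natCast_eq_natCast_iff]
    have h1 := congrArg Units.val hu
    rw [ZMod.unitsMap_val, ZMod.coe_unitOfCoprime] at h1
    rw [← h1, ZMod.natCast_val]
  choose lift hlift1 hlift2 using hlift
  set S := (Finset.range M').filter (fun a => M'.Coprime a) with hS
  let θ : S → MulChar L ℂ := fun a => ι ^ lift a.1 (Nat.coprime_comm.1 (Finset.mem_filter.1 a.2).2)
  have hθinj : ∀ a : S, Function.Injective fun x : Lˣ => θ a (x : L) := by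
    intro a x y h
    have hcop := hlift1 a.1 (Nat.coprime_comm.1 (Finset.mem_filter.1 a.2).2)
    set a' := lift a.1 (Nat.coprime_comm.1 (Finset.mem_filter.1 a.2).2)
    have h1 : ι ((x ^ a' : Lˣ) : L) = ι ((y ^ a' : Lˣ) : L) := by
      simpa [θ, a', MulChar.pow_apply_coe, Units.val_pow_eq_pow_val, map_pow] using h
    exact (powCoprime (Nat.coprime_comm.1 hcop)).injective (hιinj h1)
  have hinner : ∀ a b : S, (n : ℂ) * Cfsg.classInner (cusp (n := n) (F := F) (θ a)) (cusp (θ b)) =
      ∑ i ∈ range n, ∑ j ∈ range n, if a.1 * q ^ i ≡ b.1 * q ^ j [MOD M'] then (1 : ℂ) else 0 := by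
    intro a b
    have h1 := sum_cusp_mul_conj (θ a) (θ b) hα (by omega) hsplit
    rw [sum_frobSum_mul_conj ι hα (by omega) hιinj] at h1
    have hne : (q : ℂ) ^ n - 1 ≠ 0 := by
      rw [sub_ne_zero]
      exact_mod_cast (Nat.one_lt_pow (show n ≠ 0 by omega) hq1).ne'
    have h2 : (n : ℂ) * ∑ g : GL (Fin n) F, cusp (θ a) g * conj (cusp (θ b) g) =
        (Nat.card (GL (Fin n) F) : ℂ) *
          ∑ i ∈ range n, ∑ j ∈ range n,
            if lift a.1 (Nat.coprime_comm.1 (Finset.mem_filter.1 a.2).2) * q ^ i ≡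
              lift b.1 (Nat.coprime_comm.1 (Finset.mem_filter.1 b.2).2) * q ^ j [MOD M'] then (1 : ℂ) else 0 := by
      refine mul_left_cancel₀ hne ?_
      linear_combination h1
    rw [Cfsg.classInner, mul_left_comm, h2, inv_mul_cancel_left₀ (Nat.cast_ne_zero.2 Nat.card_pos.ne')]
    refine Finset.sum_congr rfl fun i _ => Finset.sum_congr rfl fun j _ => if_congr ?_ rfl rfl
    have ha := (hlift2 a.1 (Nat.coprime_comm.1 (Finset.mem_filter.1 a.2).2)).mul_right (q ^ i)
    have hb := (hlift2 b.1 (Nat.coprime_comm.1 (Finset.mem_filter.1 b.2).2)).mul_right (q ^ j)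
    exact ⟨fun h => (ha.symm.trans h).trans hb, fun h => (ha.trans h).trans hb.symm⟩
  have hnorm : ∀ a : S, Cfsg.classInner (cusp (n := n) (F := F) (θ a)) (cusp (θ a)) = 1 := by
    intro a
    refine mul_left_cancel₀ (show (n : ℂ) ≠ 0 from Nat.cast_ne_zero.2 (by omega)) ?_
    rw [hinner a a, mul_one, Finset.sum_congr rfl (g := fun i => (1 : ℂ)) fun i hi => ?_]
    · simp
    · rw [Finset.sum_eq_single i]
      · exact if_pos rfl
      · exact fun j hj hne => if_neg fun h => hne (modEq_pow_mul_cancel hq1 hn (Finset.mem_range.1 hi)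
          (Finset.mem_range.1 hj) (Nat.coprime_comm.1 (Finset.mem_filter.1 a.2).2) h).symm
      · exact fun h => absurd hi h
  have hirr : ∀ a : S, Cfsg.IsIrrCharacter (GL (Fin n) F) (cusp (θ a)) := fun a =>
    CfsgLib.GLFlags.isIrrCharacter_of_norm_one (isGeneralizedCharacter_cusp (θ a) (hθinj a) hL hN) (hnorm a)
      ⟨∏ i ∈ Finset.Ico 1 n, ((q : ℤ) ^ i - 1), Finset.prod_pos fun i hi => by
        have := Nat.one_lt_pow (show i ≠ 0 by have := (Finset.mem_Ico.1 hi).1; omega) hq1
        rw [sub_pos]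
        exact_mod_cast this, by rw [cusp_one _ (by omega)]; push_cast; rfl⟩
  let Φ : S → {χ : Cfsg.IrrCharacter (GL (Fin n) F) // P χ} := fun a =>
    ⟨⟨cusp (θ a), hirr a⟩, hP L (θ a) _ rfl⟩
  have : Fintype {χ : Cfsg.IrrCharacter (GL (Fin n) F) // P χ} := Fintype.ofFinite _
  have hcard : (Finset.univ : Finset S).card ≤ n * (Finset.univ.image Φ).card := by
    refine Finset.card_le_mul_card_image _ n fun y hy => ?_
    obtain ⟨a, -, rfl⟩ := Finset.mem_image.1 hy
    refine le_trans ?_ ((Finset.card_image_le (s := Finset.range n) (f := fun i => a.1 * q ^ i % M')).trans_eq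
      (Finset.card_range n))
    refine Finset.card_le_card_of_injOn (fun b : S => b.1) ?_ Subtype.val_injective.injOn
    intro b hb
    have heq : cusp (n := n) (F := F) (θ b) = cusp (θ a) :=
      congrArg (fun c : {χ : Cfsg.IrrCharacter (GL (Fin n) F) // P χ} => (c.1 : GL (Fin n) F → ℂ))
        (Finset.mem_filter.1 hb).2
    have h1 := hinner a b
    rw [heq, hnorm a, mul_one] at h1
    obtain ⟨i, hi, j, hj, hmod⟩ : ∃ i, i < n ∧ ∃ j, j < n ∧ a.1 * q ^ i ≡ b.1 * q ^ j [MOD M'] := by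
      by_contra hcon
      push Not at hcon
      rw [Finset.sum_eq_zero fun i hi => Finset.sum_eq_zero fun j hj =>
        if_neg (hcon i (Finset.mem_range.1 hi) j (Finset.mem_range.1 hj))] at h1
      exact (show n ≠ 0 by omega) (by exact_mod_cast h1)
    rw [Finset.mem_coe, Finset.mem_image]
    refine ⟨(i + (n - j)) % n, Finset.mem_range.2 (Nat.mod_lt _ (by omega)), ?_⟩
    show a.1 * q ^ _ % M' = b.1
    rw [← (modEq_shift hq1 hj hmod : b.1 ≡ _ [MOD M']), Nat.mod_eq_of_lt (Finset.mem_range.1 (Finset.mem_filter.1 b.2).1)]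
  have hle : (Finset.univ.image Φ).card ≤ Nat.card {χ : Cfsg.IrrCharacter (GL (Fin n) F) // P χ} := by
    rw [Nat.card_eq_fintype_card]
    exact Finset.card_le_univ _
  have htot : Nat.totient M' = S.card := Nat.totient_eq_card_coprime M'
  rw [Finset.card_univ, Fintype.card_coe, ← htot] at hcard
  calc Nat.totient M' / n ≤ n * (Finset.univ.image Φ).card / n := Nat.div_le_div_right hcard
    _ = (Finset.univ.image Φ).card := Nat.mul_div_cancel_left _ (by omega)
    _ ≤ _ := hle

end CfsgLib.CuspidalGL
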