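import Mathlib

/-! Sums over nilpotent groups of lifted eigenvalues. -/

set_option autoImplicit false

namespace CfsgLib.CuspidalGL

open Module Polynomial Finset

variable {L : Type*} [Field L] [Fintype L]

/-- The sum of the lifts of the eigenvalues, with geometric multiplicity. -/
noncomputable def eigSum (θ : MulChar L ℂ) {V : Type*} [AddCommGroup V] [Module L V] (g : End L V) : ℂ :=
  ∑ α : L, (finrank L (g.eigenspace α) : ℂ) * θ α

variable {V : Type*} [AddCommGroup V] [Module L V] [FiniteDimensional L V]

theorem isSemisimple_of_pow_units {g : End L V} (hg : g ^ Nat.card Lˣ = 1) : g.IsSemisimple := by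
  classical
  refine End.isSemisimple_of_squarefree_aeval_eq_zero
    ((X_pow_sub_one_separable_iff.2 ?_).squarefree) (p := X ^ Nat.card Lˣ - 1) (by rw [map_sub, map_pow, aeval_X, map_one, hg, sub_self])
  rw [Nat.card_units, Nat.cast_sub Nat.card_pos, Nat.card_eq_fintype_card, FiniteField.cast_card_eq_zero]
  simp

theorem exists_eigenvalue {g : End L V} (hg : g ^ Nat.card Lˣ = 1) [Nontrivial V] :
    ∃ ζ : L, ζ ≠ 0 ∧ g.HasEigenvalue ζ := by
  classical
  have hint : IsIntegral L g := Algebra.IsIntegral.isIntegral g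
  obtain ⟨P, hP, hdvd⟩ := WfDvdMonoid.exists_irreducible_factor (minpoly.not_isUnit L g)
    (minpoly.ne_zero hint)
  have hX : minpoly L g ∣ X ^ Nat.card Lˣ - 1 :=
    minpoly.dvd L g (by rw [map_sub, map_pow, aeval_X, map_one, hg, sub_self])
  have hPd : P ∣ X ^ (Nat.card L) ^ 1 - X := by
    refine (hdvd.trans hX).trans ⟨X, ?_⟩
    rw [sub_mul, one_mul, ← pow_succ, pow_one, Nat.card_units, Nat.sub_add_cancel Nat.card_pos]
  have hdeg : P.natDegree = 1 := Nat.dvd_one.1 (hP.natDegree_dvd_of_dvd_X_pow_card_pow_sub_X hPd)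
  obtain ⟨a, ha⟩ := exists_root_of_degree_eq_one ((degree_eq_iff_natDegree_eq hP.ne_zero).2 hdeg)
  have hroot : (minpoly L g).IsRoot a := ha.dvd hdvd
  refine ⟨a, fun h0 => ?_, End.hasEigenvalue_of_isRoot hroot⟩
  have := hroot.dvd hX
  subst h0
  simp [zero_pow Nat.card_pos.ne'] at this

theorem eigSum_smul (θ : MulChar L ℂ) {ζ : L} (hζ : ζ ≠ 0) (g : End L V) :
    eigSum θ (ζ • g) = θ ζ * eigSum θ g := by
  rw [eigSum, eigSum, Finset.mul_sum, ← Equiv.sum_comp (Equiv.mulLeft₀ ζ hζ)]
  refine Finset.sum_congr rfl fun α _ => ?_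
  have h : (ζ • g).eigenspace (ζ * α) = g.eigenspace α := by
    ext v
    rw [End.mem_eigenspace_iff, End.mem_eigenspace_iff, LinearMap.smul_apply, mul_smul]
    exact (smul_right_injective V hζ).eq_iff
  show (finrank L ((ζ • g).eigenspace (ζ * α)) : ℂ) * θ (ζ * α) = _
  rw [h, map_mul]
  ring

theorem eigSum_isCompl (θ : MulChar L ℂ) {g : End L V} {K R : Submodule L V} (h : IsCompl K R)
    (hK : ∀ v ∈ K, g v ∈ K) (hR : ∀ v ∈ R, g v ∈ R) :
    eigSum θ g = eigSum θ (g.restrict hK) + eigSum θ (g.restrict hR) := by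
  simp only [eigSum, ← Finset.sum_add_distrib, ← add_mul]
  refine Finset.sum_congr rfl fun α _ => ?_
  congr 1
  set A := (End.eigenspace (g.restrict hK) α).map K.subtype with hA
  set B := (End.eigenspace (g.restrict hR) α).map R.subtype with hB
  have hsup : g.eigenspace α = A ⊔ B := by
    refine le_antisymm (fun v hv => ?_) (sup_le ?_ ?_)
    · obtain ⟨a, ha, b, hb, rfl⟩ := Submodule.mem_sup.1 (h.sup_eq_top ▸ Submodule.mem_top (x := v))
      rw [End.mem_eigenspace_iff, map_add, smul_add] at hv
      have h1 : g a - α • a = -(g b - α • b) := by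
        rw [eq_neg_iff_add_eq_zero, sub_add_sub_comm, hv, sub_self]
      have h2 : g a - α • a ∈ K ⊓ R := ⟨K.sub_mem (hK a ha) (K.smul_mem α ha),
        h1 ▸ R.neg_mem (R.sub_mem (hR b hb) (R.smul_mem α hb))⟩
      rw [h.inf_eq_bot, Submodule.mem_bot] at h2
      rw [h2, zero_eq_neg] at h1
      refine Submodule.add_mem_sup ⟨⟨a, ha⟩, ?_, rfl⟩ ⟨⟨b, hb⟩, ?_, rfl⟩
      · rw [SetLike.mem_coe, End.mem_eigenspace_iff]
        exact Subtype.ext (sub_eq_zero.1 h2)
      · rw [SetLike.mem_coe, End.mem_eigenspace_iff]
        exact Subtype.ext (sub_eq_zero.1 h1)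
    · rintro _ ⟨a, ha, rfl⟩
      rw [SetLike.mem_coe, End.mem_eigenspace_iff] at ha
      exact End.mem_eigenspace_iff.2 (congrArg Subtype.val ha)
    · rintro _ ⟨a, ha, rfl⟩
      rw [SetLike.mem_coe, End.mem_eigenspace_iff] at ha
      exact End.mem_eigenspace_iff.2 (congrArg Subtype.val ha)
  have hinf : A ⊓ B = ⊥ :=
    le_bot_iff.1 ((inf_le_inf (Submodule.map_subtype_le _ _) (Submodule.map_subtype_le _ _)).trans h.inf_eq_bot.le)
  have hd := Submodule.finrank_sup_add_finrank_inf_eq A B
  rw [hinf, finrank_bot, add_zero, ← hsup, Submodule.finrank_map_subtype_eq,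
    Submodule.finrank_map_subtype_eq] at hd
  rw [hd, Nat.cast_add]

theorem eigSum_one (θ : MulChar L ℂ) : eigSum θ (1 : End L V) = (finrank L V : ℂ) := by
  rw [eigSum, Finset.sum_eq_single 1]
  · rw [show (1 : End L V).eigenspace 1 = ⊤ by ext v; simp [End.mem_eigenspace_iff], finrank_top]
    simp
  · intro α _ hα
    rw [show (1 : End L V).eigenspace α = ⊥ by
      ext v
      rw [End.mem_eigenspace_iff, End.one_apply, Submodule.mem_bot]
      refine ⟨fun hv => ?_, fun hv => by simp [hv]⟩
      by_contra h0
      exact hα ((smul_left_injective L h0) (show α • v = (1 : L) • v by rw [one_smul]; exact hv.symm))]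
    simp
  · simp

universe u w

/-- For a representation of a finite nilpotent group by semisimple split maps, the eigenvalue sum adds up to a
multiple of the group order. -/
theorem sum_eigSum (θ : MulChar L ℂ) (hθ : Function.Injective fun a : Lˣ => θ (a : L)) :
    ∀ (N : ℕ) {U : Type u} [Group U] [Fintype U] [Group.IsNilpotent U] {V : Type w} [AddCommGroup V]
      [Module L V] [FiniteDimensional L V] (ρ : Representation L U V), Nat.card U + finrank L V = N →
      (∀ u, ρ u ^ Nat.card Lˣ = 1) → ∃ k : ℤ, ∑ u, eigSum θ (ρ u) = (Nat.card U : ℂ) * k := by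
  classical
  intro N
  induction N using Nat.strong_induction_on with
  | _ N ih =>
    intro U _ _ _ V _ _ _ ρ hN hρ
    rcases subsingleton_or_nontrivial U with hU | hU
    · refine ⟨finrank L V, ?_⟩
      rw [Nat.card_unique, Nat.cast_one, one_mul, Fintype.sum_subsingleton _ (1 : U), map_one, eigSum_one,
        Int.cast_natCast]
    obtain ⟨z, hz, hz1⟩ := ((Subgroup.center U).bot_or_exists_ne_one).resolve_left (Group.IsNilpotent.center_ne_bot (G := U))
    by_cases hztriv : ρ z = 1
    · -- pass to the quotient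
      let Z := Subgroup.zpowers z
      have : Z.Normal := ⟨fun n hn g => by
        rw [Subgroup.mem_center_iff.1 (Subgroup.zpowers_le.2 hz hn) g, mul_inv_cancel_right]
        exact hn⟩
      have hle : Z ≤ MonoidHom.ker ρ := Subgroup.zpowers_le.2 (MonoidHom.mem_ker.2 hztriv)
      let ρ' : Representation L (U ⧸ Z) V := QuotientGroup.lift Z ρ hle
      have hcard : Nat.card U = Nat.card (U ⧸ Z) * Nat.card Z := Subgroup.card_eq_card_quotient_mul_card_subgroup Z
      have h2 : 1 < Nat.card Z := by
        rw [Nat.card_zpowers]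
        exact Nat.one_lt_iff_ne_zero_and_ne_one.2 ⟨(orderOf_pos z).ne', fun h => hz1 (orderOf_eq_one_iff.1 h)⟩
      have hlt : Nat.card (U ⧸ Z) + finrank L V < N := by
        have := Nat.card_pos (α := U ⧸ Z)
        rw [← hN, hcard]
        nlinarith
      obtain ⟨k, hk⟩ := ih _ hlt ρ' rfl (fun x => by
        induction x using QuotientGroup.induction_on with
        | H u => exact hρ u)
      refine ⟨k, ?_⟩
      have hsum : ∑ u, eigSum θ (ρ u) = (Nat.card Z : ℂ) * ∑ x, eigSum θ (ρ' x) := by
        rw [← Equiv.sum_comp (Subgroup.groupEquivQuotientProdSubgroup (s := Z)).symm, Fintype.sum_prod_type,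
          Finset.mul_sum]
        refine Finset.sum_congr rfl fun x _ => ?_
        have hx : ∀ y : Z, ρ ((Subgroup.groupEquivQuotientProdSubgroup (s := Z)).symm (x, y)) = ρ' x := by
          intro y
          have h1 : QuotientGroup.mk ((Subgroup.groupEquivQuotientProdSubgroup (s := Z)).symm (x, y)) = x := by
            have := (Subgroup.groupEquivQuotientProdSubgroup (s := Z)).apply_symm_apply (x, y)
            exact congrArg Prod.fst this
          conv_rhs => rw [← h1]
          rfl
        simp only [hx, Finset.sum_const, Finset.card_univ, nsmul_eq_mul, Nat.card_eq_fintype_card]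
      rw [hsum, hk, hcard]
      push_cast
      ring
    rcases subsingleton_or_nontrivial V with hV | hV
    · refine ⟨0, ?_⟩
      simp [eigSum, finrank_zero_of_subsingleton]
    obtain ⟨ζ, hζ0, hζ⟩ := exists_eigenvalue (hρ z)
    set T : End L V := ρ z - ζ • 1
    have hT : ∀ u, ∀ v, ρ u (T v) = T (ρ u v) := by
      intro u v
      have h1 : ρ u (ρ z v) = ρ z (ρ u v) := by
        rw [← End.mul_apply, ← End.mul_apply, ← map_mul, ← map_mul, Subgroup.mem_center_iff.1 hz u]
      simp [T, h1]
    have hker : ∀ u, ∀ v ∈ LinearMap.ker T, ρ u v ∈ LinearMap.ker T := fun u v hv => by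
      rw [LinearMap.mem_ker] at hv ⊢
      rw [← hT, hv, map_zero]
    have hran : ∀ u, ∀ v ∈ LinearMap.range T, ρ u v ∈ LinearMap.range T := by
      rintro u _ ⟨w, rfl⟩
      exact ⟨ρ u w, (hT u w).symm⟩
    by_cases htop : LinearMap.ker T = ⊤
    · -- scalar central element
      have hscal : ρ z = ζ • 1 := sub_eq_zero.1 (LinearMap.ker_eq_top.1 htop)
      have hθζ : θ ζ ≠ 1 := by
        intro h
        have h1 := @hθ (Units.mk0 ζ hζ0) 1 (by simpa using h)
        have h2 : ζ = 1 := congrArg Units.val h1
        exact hztriv (by rw [hscal, h2, one_smul])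
      refine ⟨0, ?_⟩
      have h : ∑ u, eigSum θ (ρ u) = θ ζ * ∑ u, eigSum θ (ρ u) := by
        rw [Finset.mul_sum]
        conv_lhs => rw [← Equiv.sum_comp (Equiv.mulLeft z)]
        refine Finset.sum_congr rfl fun u _ => ?_
        rw [Equiv.coe_mulLeft, map_mul, hscal, smul_mul_assoc, one_mul, eigSum_smul θ hζ0]
      have h' : (θ ζ - 1) * ∑ u, eigSum θ (ρ u) = 0 := by linear_combination -h
      rw [(mul_eq_zero.1 h').resolve_left (sub_ne_zero.2 hθζ)]
      simp
    · -- split off an eigenspace
      have hkerEig : LinearMap.ker T = End.eigenspace (ρ z) ζ := by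
        ext v
        simp [T, sub_eq_zero]
      have hne : LinearMap.ker T ≠ ⊥ := by
        rw [hkerEig]
        exact hζ
      have hdisj : Disjoint (LinearMap.ker T) (LinearMap.range T) := by
        rw [Submodule.disjoint_def]
        rintro _ hv ⟨w, rfl⟩
        have hgen : w ∈ End.maxGenEigenspace (ρ z) ζ := (End.mem_maxGenEigenspace _ _ _).2 ⟨2, by
          rw [pow_two, End.mul_apply]
          exact hv⟩
        rw [(isSemisimple_of_pow_units (hρ z)).isFinitelySemisimple.maxGenEigenspace_eq_eigenspace, ← hkerEig] at hgen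
        exact hgen
      have hdim := LinearMap.finrank_range_add_finrank_ker T
      have hc : IsCompl (LinearMap.ker T) (LinearMap.range T) :=
        Submodule.isCompl_iff_disjoint _ _ (by omega) |>.2 hdisj
      let ρK : Representation L U (LinearMap.ker T) :=
        { toFun := fun u => (ρ u).restrict (hker u)
          map_one' := by ext v; simp
          map_mul' := fun a b => by ext v; simp }
      let ρR : Representation L U (LinearMap.range T) :=
        { toFun := fun u => (ρ u).restrict (hran u)
          map_one' := by ext v; simp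
          map_mul' := fun a b => by ext v; simp }
      have hpos : 0 < finrank L (LinearMap.ker T) :=
        Nat.pos_of_ne_zero fun h => hne (Submodule.finrank_eq_zero.1 h)
      have hlt : finrank L (LinearMap.ker T) < finrank L V := Submodule.finrank_lt htop
      obtain ⟨k1, hk1⟩ := ih _ (by omega : Nat.card U + finrank L (LinearMap.ker T) < N) ρK rfl
        (fun u => by
          show ((ρ u).restrict (hker u)) ^ _ = 1
          ext v
          rw [End.pow_restrict (Nat.card Lˣ)]
          show (ρ u ^ Nat.card Lˣ) v = v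
          rw [hρ u]
          rfl)
      obtain ⟨k2, hk2⟩ := ih _ (by omega : Nat.card U + finrank L (LinearMap.range T) < N) ρR rfl
        (fun u => by
          show ((ρ u).restrict (hran u)) ^ _ = 1
          ext v
          rw [End.pow_restrict (Nat.card Lˣ)]
          show (ρ u ^ Nat.card Lˣ) v = v
          rw [hρ u]
          rfl)
      refine ⟨k1 + k2, ?_⟩
      simp only [eigSum_isCompl θ hc (hker _) (hran _), Finset.sum_add_distrib]
      rw [show ∑ u, eigSum θ ((ρ u).restrict (hker u)) = ∑ u, eigSum θ (ρK u) from rfl,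
        show ∑ u, eigSum θ ((ρ u).restrict (hran u)) = ∑ u, eigSum θ (ρR u) from rfl, hk1, hk2]
      push_cast
      ring

end CfsgLib.CuspidalGL
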