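import Cfsg.Agent.Lib.CuspidalGL.Char

/-! Inner products of the cuspidal class functions. -/

set_option autoImplicit false

namespace CfsgLib.CuspidalGL

open Module Finset Polynomial CfsgLib.SteinbergValues
open scoped ComplexConjugate

variable {F : Type*} [Field F] [Fintype F] [DecidableEq F] {L : Type*} [Field L] [Fintype L] [Algebra F L] {n : ℕ}

/-- The elements fixed by the `n`-th Frobenius power, generated by `α`. -/
structure SubGen (F L : Type*) [Field F] [Fintype F] [Field L] (n : ℕ) (α : L) : Prop where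
  order : orderOf α = Fintype.card F ^ n - 1

theorem SubGen.pow_card {α : L} (h : SubGen F L n α) (t : ℕ) : (α ^ t) ^ Fintype.card F ^ n = α ^ t := by
  have h1 : Fintype.card F ^ n = (Fintype.card F ^ n - 1) + 1 :=
    (Nat.sub_add_cancel (Nat.one_le_pow _ _ Fintype.card_pos)).symm
  rw [← pow_mul, mul_comm, pow_mul, h1, pow_succ, ← h.order, pow_orderOf_eq_one, one_mul]

theorem SubGen.ne_zero {α : L} (h : SubGen F L n α) (hn : 1 ≤ n) : α ≠ 0 := by
  rintro rfl
  have h1 := h.order
  rw [orderOf_eq_zero (by rw [isOfFinOrder_iff_pow_eq_one]; rintro ⟨k, hk, h0⟩; rw [zero_pow hk.ne'] at h0; exact zero_ne_one h0)] at h1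
  have := Nat.one_lt_pow (show n ≠ 0 by omega) (Fintype.one_lt_card (α := F))
  omega

/-- The finset of powers. -/
noncomputable def genSet [DecidableEq L] (α : L) (M : ℕ) : Finset L := (Finset.range M).image (α ^ ·)

/-- Frobenius power sums. -/
noncomputable def frobSum (n : ℕ) (q : ℕ) (θ : MulChar L ℂ) (β : L) : ℂ := ∑ j ∈ range n, θ (β ^ q ^ j)

theorem mem_genSet_iff [DecidableEq L] {α β : L} (h : SubGen F L n α) (hn : 1 ≤ n) :
    β ∈ genSet α (Fintype.card F ^ n - 1) ↔ β ≠ 0 ∧ β ^ Fintype.card F ^ n = β := by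
  have h2 := Nat.one_lt_pow (show n ≠ 0 by omega) (Fintype.one_lt_card (α := F))
  constructor
  · intro hβ
    obtain ⟨t, -, rfl⟩ := Finset.mem_image.1 hβ
    exact ⟨pow_ne_zero _ (h.ne_zero hn), h.pow_card t⟩
  · rintro ⟨h0, hfix⟩
    have : NeZero (Fintype.card F ^ n - 1) := ⟨by omega⟩
    have hprim : IsPrimitiveRoot α (Fintype.card F ^ n - 1) := h.order ▸ IsPrimitiveRoot.orderOf α
    obtain ⟨t, ht, rfl⟩ := hprim.eq_pow_of_pow_eq_one (ξ := β) (by
      refine mul_right_cancel₀ h0 ?_
      rw [← pow_succ, Nat.sub_add_cancel (by omega), hfix, one_mul])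
    exact Finset.mem_image.2 ⟨t, Finset.mem_range.2 ht, rfl⟩

/-- The conjugates of an element. -/
theorem minpoly_facts [DecidableEq L] {α β : L} (h : SubGen F L n α) (hn : 1 ≤ n)
    (hβ : β ∈ genSet α (Fintype.card F ^ n - 1)) :
    (minpoly F β).Monic ∧ Irreducible (minpoly F β) ∧ ¬ (minpoly F β) ∣ X ∧ (minpoly F β).natDegree ∣ n ∧
    ((minpoly F β).map (algebraMap F L)).roots =
      ((range (minpoly F β).natDegree).image fun j => β ^ Fintype.card F ^ j).val := by
  obtain ⟨h0, hfix⟩ := (mem_genSet_iff h hn).1 hβ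
  have hint : IsIntegral F β := IsIntegral.of_finite F β
  have hirr := minpoly.irreducible hint
  have hmon := minpoly.monic hint
  set f := minpoly F β
  set d := f.natDegree with hd
  have hdpos : 0 < d := hirr.natDegree_pos
  have hdvd : d ∣ n := hirr.natDegree_dvd_of_dvd_X_pow_card_pow_sub_X
    (minpoly.dvd F β (by rw [map_sub, map_pow, aeval_X, Nat.card_eq_fintype_card, hfix, sub_self]))
  have hX : ¬ f ∣ X := fun hd' => h0 (by
    obtain ⟨c, hc⟩ := hd'
    have := congrArg (aeval β) hc
    rwa [aeval_X, map_mul, minpoly.aeval, zero_mul] at this)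
  have hroot : ∀ j, aeval (β ^ Fintype.card F ^ j) f = 0 := by
    intro j
    induction j with
    | zero => rw [pow_zero, pow_one]; exact minpoly.aeval F β
    | succ j ih =>
      rw [pow_succ, pow_mul, ← expand_aeval (Fintype.card F) f, FiniteField.expand_card, map_pow, ih,
        zero_pow Fintype.card_ne_zero]
  have hinj : Set.InjOn (fun j => β ^ Fintype.card F ^ j) (range d : Finset ℕ) := by
    obtain ⟨p, hp⟩ := CharP.exists F
    obtain ⟨a, hpp, hq⟩ := FiniteField.card F p
    have := Fact.mk hpp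
    have : CharP L p := charP_of_injective_algebraMap (algebraMap F L).injective p
    have key : ∀ i r, r < d → β ^ Fintype.card F ^ i = β ^ Fintype.card F ^ (i + r) → r = 0 := by
      intro i r hr he
      rw [add_comm, pow_add, pow_mul, hq, ← pow_mul p] at he
      have h1 : β = β ^ Fintype.card F ^ r := by
        apply iterateFrobenius_inj L p (a * i)
        rw [iterateFrobenius_def, iterateFrobenius_def]
        rw [hq]
        exact he
      by_contra hr0
      have h2 : d ∣ r := hirr.natDegree_dvd_of_dvd_X_pow_card_pow_sub_X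
        (minpoly.dvd F β (by rw [map_sub, map_pow, aeval_X, Nat.card_eq_fintype_card, ← h1, sub_self]))
      exact absurd (Nat.le_of_dvd (Nat.pos_of_ne_zero hr0) h2) (not_le.2 hr)
    intro i hi j hj hij
    simp only [Finset.coe_range, Set.mem_Iio] at hi hj
    rcases le_total i j with hle | hle
    · obtain ⟨r, rfl⟩ := Nat.exists_eq_add_of_le hle
      rw [key i r (by omega) hij, add_zero]
    · obtain ⟨r, rfl⟩ := Nat.exists_eq_add_of_le hle
      rw [key j r (by omega) hij.symm, add_zero]
  refine ⟨hmon, hirr, hX, hdvd, (Multiset.eq_of_le_of_card_le ?_ ?_).symm⟩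
  · refine (Multiset.le_iff_subset (Finset.nodup _)).2 fun x hx => ?_
    obtain ⟨j, -, rfl⟩ := Finset.mem_image.1 (Finset.mem_def.2 hx)
    rw [mem_roots (Polynomial.map_ne_zero hmon.ne_zero), IsRoot, eval_map, ← aeval_def]
    exact hroot j
  · refine (card_roots' _).trans ?_
    rw [natDegree_map, Finset.card_val, Finset.card_image_of_injOn hinj, Finset.card_range]

theorem liftPoly_minpoly [DecidableEq L] (θ : MulChar L ℂ) {α β : L} (h : SubGen F L n α) (hn : 1 ≤ n)
    (hβ : β ∈ genSet α (Fintype.card F ^ n - 1)) :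
    frobSum n (Fintype.card F) θ β = (n / (minpoly F β).natDegree : ℕ) * liftPoly θ (minpoly F β) ∧
    (Finset.filter (fun γ => minpoly F γ = minpoly F β) (genSet α (Fintype.card F ^ n - 1))).card =
      (minpoly F β).natDegree := by
  classical
  obtain ⟨hmon, hirr, -, hdvd, hroots⟩ := minpoly_facts h hn hβ
  obtain ⟨-, hfix⟩ := (mem_genSet_iff h hn).1 hβ
  set f := minpoly F β
  set d := f.natDegree with hd
  set J := (range d).image fun j => β ^ Fintype.card F ^ j with hJ
  have hcardJ : J.card = d := by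
    refine le_antisymm (Finset.card_image_le.trans_eq (Finset.card_range d)) ?_
    have hsplit : (f.map (algebraMap F L)).Splits := by
      refine Splits.of_dvd ?_ ?_ (Polynomial.map_dvd _ (minpoly.dvd F β
        (p := X ^ Fintype.card L - X) (by rw [map_sub, map_pow, aeval_X, FiniteField.pow_card, sub_self])))
      · rw [Polynomial.map_sub, Polynomial.map_pow, map_X, ← Nat.card_eq_fintype_card]
        have h := (FiniteField.isSplittingField_sub L F).splits
        rwa [Polynomial.map_sub, Polynomial.map_pow, map_X, ← Nat.card_eq_fintype_card] at h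
      · rw [Polynomial.map_sub, Polynomial.map_pow, map_X]
        exact FiniteField.X_pow_card_sub_X_ne_zero L Fintype.one_lt_card
    have hc := hsplit.natDegree_eq_card_roots
    rw [natDegree_map, hroots] at hc
    exact hc.le
  have hperiod : β ^ Fintype.card F ^ d = β := by
    have h1 : f ∣ X ^ Nat.card F ^ d - X := hirr.natDegree_dvd_iff_dvd_X_pow_card_pow_sub_X.1 dvd_rfl
    obtain ⟨c, hc⟩ := h1
    have := congrArg (aeval β) hc
    rwa [map_mul, minpoly.aeval, zero_mul, map_sub, map_pow, aeval_X, sub_eq_zero, Nat.card_eq_fintype_card] at this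
  have hlift : liftPoly θ f = ∑ j ∈ range d, θ (β ^ Fintype.card F ^ j) := by
    rw [liftPoly, ← Finset.sum_image (g := fun j => β ^ Fintype.card F ^ j) (f := fun x => θ x),
      ← hJ]
    · rw [← Finset.sum_subset (Finset.subset_univ J) (fun x _ hx => by
        rw [← count_roots, hroots, Multiset.count_eq_zero.2 hx, Nat.cast_zero, zero_mul])]
      refine Finset.sum_congr rfl fun x hx => ?_
      rw [← count_roots, hroots, Multiset.count_eq_one_of_mem (Finset.nodup _) hx, Nat.cast_one, one_mul]
    · refine Finset.card_image_iff.1 ?_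
      rw [← hJ, hcardJ, Finset.card_range]
  constructor
  · have hmul : ∀ k, ∑ j ∈ range (d * k), θ (β ^ Fintype.card F ^ j) = (k : ℂ) * liftPoly θ f := by
      intro k
      induction k with
      | zero => simp
      | succ k ih =>
        have hp : ∀ k, β ^ Fintype.card F ^ (d * k) = β := fun k => by
          induction k with
          | zero => simp
          | succ k ih => rw [Nat.mul_succ, pow_add, pow_mul, ih, hperiod]
        rw [Nat.mul_succ, Finset.sum_range_add, ih, Finset.sum_congr rfl (g := fun j => θ (β ^ Fintype.card F ^ j))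
          (fun j _ => by rw [pow_add, pow_mul, hp]), ← hlift]
        push_cast
        ring
    rw [frobSum]
    conv_lhs => rw [← Nat.mul_div_cancel' hdvd]
    exact hmul _
  · rw [show Finset.filter (fun γ => minpoly F γ = f) (genSet α (Fintype.card F ^ n - 1)) = J from ?_, hcardJ]
    ext γ
    rw [Finset.mem_filter]
    have hJmem : γ ∈ J ↔ aeval γ f = 0 := by
      rw [Finset.mem_def, hJ, ← hroots, mem_roots (Polynomial.map_ne_zero hmon.ne_zero), IsRoot, eval_map,
        ← aeval_def]
    rw [hJmem]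
    refine ⟨fun ⟨_, h2⟩ => h2 ▸ minpoly.aeval F γ, fun hγ => ?_⟩
    have hmin : minpoly F γ = f := (minpoly.eq_of_irreducible_of_monic hirr hγ hmon).symm
    refine ⟨(mem_genSet_iff h hn).2 ⟨fun h0 => ?_, ?_⟩, hmin⟩
    · subst h0
      rw [minpoly.zero] at hmin
      exact (minpoly_facts h hn hβ).2.2.1 (hmin ▸ dvd_rfl)
    · obtain ⟨j, -, hj⟩ := Finset.mem_image.1 ((hJmem).2 hγ)
      rw [← hj, ← pow_mul, mul_comm, pow_mul, hfix]

/-- The inner product sum. -/
theorem sum_cusp_mul_conj [DecidableEq L] (θ θ' : MulChar L ℂ) {α : L} (h : SubGen F L n α) (hn : 1 ≤ n)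
    (hsplit : ∀ f : F[X], f.Monic → Irreducible f → f.natDegree ∣ n → ∃ β : L, aeval β f = 0) :
    ((Fintype.card F : ℂ) ^ n - 1) * (n : ℂ) * ∑ g : GL (Fin n) F, cusp θ g * conj (cusp θ' g) =
      (Nat.card (GL (Fin n) F) : ℂ) * ∑ β ∈ genSet α (Fintype.card F ^ n - 1),
        frobSum n (Fintype.card F) θ β * conj (frobSum n (Fintype.card F) θ' β) := by
  classical
  set T := genSet α (Fintype.card F ^ n - 1)
  set Fs := T.image (minpoly F) with hFs
  have hspec : ∀ f ∈ Fs, f.Monic ∧ Irreducible f ∧ ¬ f ∣ X ∧ f.natDegree * (n / f.natDegree) = n ∧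
      0 < n / f.natDegree := by
    intro f hf
    obtain ⟨β, hβ, rfl⟩ := Finset.mem_image.1 hf
    obtain ⟨h1, h2, h3, h4, -⟩ := minpoly_facts h hn hβ
    exact ⟨h1, h2, h3, Nat.mul_div_cancel' h4, Nat.div_pos (Nat.le_of_dvd hn h4) h2.natDegree_pos⟩
  have hpoint : ∀ g : GL (Fin n) F, cusp θ g * conj (cusp θ' g) = ∑ f ∈ Fs,
      if (g : Matrix (Fin n) (Fin n) F).charpoly = f ^ (n / f.natDegree) then
        ((glWeight f g * glWeight f g : ℤ) : ℂ) * (liftPoly θ f * conj (liftPoly θ' f)) else 0 := by
    intro g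
    by_cases hprim : ∃ f : F[X], f.Monic ∧ Irreducible f ∧ ∃ j, (act g).charpoly = f ^ j
    · obtain ⟨f, hmon, hf, j, hj⟩ := hprim
      have hjn : f.natDegree * j = n := by
        have h1 := congrArg Polynomial.natDegree hj
        rw [LinearMap.charpoly_natDegree, hmon.natDegree_pow, finrank_fin_fun] at h1
        rw [mul_comm]; exact h1.symm
      have hj0 : 0 < j := Nat.pos_of_ne_zero fun h0 => by rw [h0, mul_zero] at hjn; omega
      have hfX : ¬ f ∣ X := by
        intro hfd
        have hX : f = X := Polynomial.eq_of_monic_of_associated hmon monic_X (hf.associated_of_dvd irreducible_X hfd)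
        have hdet : (g : Matrix (Fin n) (Fin n) F).det ≠ 0 := by
          have hu : IsUnit (g : Matrix (Fin n) (Fin n) F) := g.isUnit
          exact ((Matrix.isUnit_iff_isUnit_det _).1 hu).ne_zero
        apply hdet
        rw [Matrix.det_eq_sign_charpoly_coeff, ← Matrix.charpoly_toLin', hj, hX, coeff_zero_eq_eval_zero, eval_pow,
          eval_X, zero_pow hj0.ne', mul_zero]
      have hdn : f.natDegree ∣ n := ⟨j, hjn.symm⟩
      obtain ⟨β, hβ⟩ := hsplit f hmon hf hdn
      have hmin : f = minpoly F β := minpoly.eq_of_irreducible_of_monic hf hβ hmon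
      have hβT : β ∈ T := by
        refine (mem_genSet_iff h hn).2 ⟨fun h0 => hfX ?_, ?_⟩
        · rw [hmin, h0, minpoly.zero]
        · have h1 : f ∣ X ^ Nat.card F ^ n - X := hf.natDegree_dvd_iff_dvd_X_pow_card_pow_sub_X.1 hdn
          obtain ⟨c, hc⟩ := h1
          have h2 := congrArg (aeval β) hc
          rwa [map_mul, hβ, zero_mul, map_sub, map_pow, aeval_X, sub_eq_zero, Nat.card_eq_fintype_card] at h2
      have hfFs : f ∈ Fs := Finset.mem_image.2 ⟨β, hβT, hmin.symm⟩
      have hjeq : n / f.natDegree = j := by rw [← hjn, Nat.mul_div_cancel_left _ hf.natDegree_pos]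
      have hj' : (g : Matrix (Fin n) (Fin n) F).charpoly = f ^ j := by rw [← Matrix.charpoly_toLin']; exact hj
      rw [Finset.sum_eq_single f]
      · rw [if_pos (hjeq ▸ hj')]
        obtain ⟨l, hl, hv⟩ := lusztigSum_primary θ hmon hf hfX hj hj0
        obtain ⟨l', hl', hv'⟩ := lusztigSum_primary θ' hmon hf hfX hj hj0
        obtain rfl : l' = l := by
          have := Nat.eq_of_mul_eq_mul_left hf.natDegree_pos (hl'.trans hl.symm)
          omega
        have hw : glWeight f g = ∏ i ∈ range l', (1 - ((Nat.card F : ℤ) ^ f.natDegree) ^ (i + 1)) := by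
          rw [glWeight, ← hl, Nat.mul_div_cancel_left _ hf.natDegree_pos, Nat.add_sub_cancel, pval,
            Nat.card_eq_fintype_card]
        rw [cusp, cusp, hv, hv', ← hw, map_mul, map_mul, map_pow, map_neg, map_one, map_intCast, Int.cast_mul]
        have hsq : ((-1 : ℂ) ^ (n - 1)) * (-1) ^ (n - 1) = 1 := by rw [← mul_pow]; simp
        linear_combination ((glWeight f g : ℂ) * (glWeight f g : ℂ) * (liftPoly θ f * conj (liftPoly θ' f))) * hsq
      · intro f' hf' hne
        refine if_neg fun h' => hne ?_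
        obtain ⟨h1, h2, -, -, h5⟩ := hspec f' hf'
        have h6 : f' ∣ f ^ j := hj' ▸ h' ▸ dvd_pow_self f' h5.ne'
        exact Polynomial.eq_of_monic_of_associated h1 hmon (h2.associated_of_dvd hf (h2.prime.dvd_of_dvd_pow h6))
      · exact fun hno => absurd hfFs hno
    · push Not at hprim
      rw [cusp, lusztigSum_eq_zero θ (act g) hprim, mul_zero, zero_mul]
      symm
      refine Finset.sum_eq_zero fun f hf => if_neg fun h' => ?_
      obtain ⟨h1, h2, -, -, -⟩ := hspec f hf
      exact hprim f h1 h2 _ (by rw [Matrix.charpoly_toLin']; exact h')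
  have hclass : ∀ f ∈ Fs, ((Fintype.card F : ℂ) ^ n - 1) *
      ∑ g : GL (Fin n) F, (if (g : Matrix (Fin n) (Fin n) F).charpoly = f ^ (n / f.natDegree) then
        ((glWeight f g * glWeight f g : ℤ) : ℂ) * (liftPoly θ f * conj (liftPoly θ' f)) else 0) =
      (Nat.card (GL (Fin n) F) : ℂ) * ((n / f.natDegree : ℕ) * (liftPoly θ f * conj (liftPoly θ' f))) := by
    intro f hf
    obtain ⟨h1, h2, h3, h4, h5⟩ := hspec f hf
    obtain ⟨k, hk⟩ : ∃ k, n / f.natDegree = k + 1 := ⟨n / f.natDegree - 1, by omega⟩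
    have key := congrArg (fun z : ℤ => (z : ℂ)) (sum_weight_sq h1 h2 h3 (n := n) (k := k) (by rw [← hk, h4]))
    simp only [Int.cast_mul, Int.cast_sub, Int.cast_pow, Int.cast_natCast, Int.cast_one, Int.cast_add,
      Int.cast_sum] at key
    rw [← Finset.sum_filter, ← Finset.sum_mul, ← mul_assoc, hk]
    push_cast
    rw [key]
    ring
  have hsum : ((Fintype.card F : ℂ) ^ n - 1) * ∑ g : GL (Fin n) F, cusp θ g * conj (cusp θ' g) =
      (Nat.card (GL (Fin n) F) : ℂ) *
        ∑ f ∈ Fs, ((n / f.natDegree : ℕ) : ℂ) * (liftPoly θ f * conj (liftPoly θ' f)) := by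
    rw [Finset.sum_congr rfl (fun g _ => hpoint g), Finset.sum_comm, Finset.mul_sum, Finset.mul_sum]
    exact Finset.sum_congr rfl hclass
  rw [← Finset.sum_fiberwise_of_maps_to (t := Fs) (g := minpoly F) (fun β hβ => Finset.mem_image_of_mem _ hβ),
    mul_right_comm, hsum, mul_assoc, Finset.sum_mul]
  congr 1
  refine Finset.sum_congr rfl fun f hf => ?_
  obtain ⟨β, hβ, rfl⟩ := Finset.mem_image.1 hf
  rw [Finset.sum_congr rfl (g := fun _ => ((n / (minpoly F β).natDegree : ℕ) : ℂ) * liftPoly θ (minpoly F β) *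
      conj (((n / (minpoly F β).natDegree : ℕ) : ℂ) * liftPoly θ' (minpoly F β))) (fun γ hγ => by
      obtain ⟨hγT, hγm⟩ := Finset.mem_filter.1 hγ
      rw [(liftPoly_minpoly θ h hn hγT).1, (liftPoly_minpoly θ' h hn hγT).1, hγm]),
    Finset.sum_const, (liftPoly_minpoly θ h hn hβ).2, nsmul_eq_mul, map_mul, map_natCast]
  have hnk : ((minpoly F β).natDegree : ℂ) * ((n / (minpoly F β).natDegree : ℕ) : ℂ) = (n : ℂ) := by
    rw [← Nat.cast_mul, (hspec _ hf).2.2.2.1]
  linear_combination (-(((n / (minpoly F β).natDegree : ℕ) : ℂ)) * liftPoly θ (minpoly F β) *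
    conj (liftPoly θ' (minpoly F β))) * hnk

/-- Orthogonality over the generated set. -/
theorem sum_frobSum_mul_conj [DecidableEq L] (ι : MulChar L ℂ) {α : L} (h : SubGen F L n α) (hn : 1 ≤ n)
    (hinj : Function.Injective fun x : Lˣ => ι (x : L)) (a b : ℕ) :
    ∑ β ∈ genSet α (Fintype.card F ^ n - 1),
      frobSum n (Fintype.card F) (ι ^ a) β * conj (frobSum n (Fintype.card F) (ι ^ b) β) =
      ((Fintype.card F : ℂ) ^ n - 1) * ∑ i ∈ range n, ∑ j ∈ range n,
        if a * Fintype.card F ^ i ≡ b * Fintype.card F ^ j [MOD Fintype.card F ^ n - 1] then (1 : ℂ) else 0 := by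
  classical
  set M := Fintype.card F ^ n - 1 with hM
  have h2 := Nat.one_lt_pow (show n ≠ 0 by omega) (Fintype.one_lt_card (α := F))
  have hα0 := h.ne_zero hn
  set z := ι α with hz
  have hzord : orderOf z = M := by
    have h1 : orderOf (Units.mk0 α hα0) = M := by rw [← orderOf_units, Units.val_mk0, h.order]
    rw [← h1, hz]
    let φ : Lˣ →* ℂ := { toFun := fun x => ι (x : L), map_one' := by simp, map_mul' := fun x y => by simp }
    exact orderOf_injective φ hinj (Units.mk0 α hα0)
  have hzprim : IsPrimitiveRoot z M := hzord ▸ IsPrimitiveRoot.orderOf z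
  have hM0 : 0 < M := by omega
  have hzinv : conj z = z⁻¹ := (Complex.inv_eq_conj (Complex.norm_eq_one_of_pow_eq_one
    (hzord ▸ pow_orderOf_eq_one z) hM0.ne')).symm
  rw [genSet, Finset.sum_image]
  · have hterm : ∀ t, frobSum n (Fintype.card F) (ι ^ a) (α ^ t) * conj (frobSum n (Fintype.card F) (ι ^ b) (α ^ t)) =
        ∑ i ∈ range n, ∑ j ∈ range n, (z ^ (a * Fintype.card F ^ i) * (z ^ (b * Fintype.card F ^ j))⁻¹) ^ t := by
      intro t
      have hval : ∀ (c : ℕ) (j : ℕ), (ι ^ c) ((α ^ t) ^ Fintype.card F ^ j) = (z ^ (c * Fintype.card F ^ j)) ^ t := by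
        intro c j
        rcases Nat.eq_zero_or_pos c with rfl | hc
        · rw [pow_zero, MulChar.one_apply (Ne.isUnit (pow_ne_zero _ (pow_ne_zero _ hα0)))]
          simp
        · rw [MulChar.pow_apply' _ hc.ne', map_pow, map_pow, ← hz, ← pow_mul, ← pow_mul, ← pow_mul]
          congr 1
          ring
      simp only [frobSum, map_sum, hval, map_pow, hzinv, inv_pow]
      rw [Finset.sum_mul_sum]
      refine Finset.sum_congr rfl fun i _ => Finset.sum_congr rfl fun j _ => ?_
      rw [mul_pow, inv_pow]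
    rw [Finset.sum_congr rfl (fun t _ => hterm t), Finset.sum_comm, Finset.mul_sum]
    refine Finset.sum_congr rfl fun i _ => ?_
    rw [Finset.sum_comm, Finset.mul_sum]
    refine Finset.sum_congr rfl fun j _ => ?_
    set w := z ^ (a * Fintype.card F ^ i) * (z ^ (b * Fintype.card F ^ j))⁻¹ with hw
    have hz0 : z ≠ 0 := fun h0 => by
      have h' := hzprim.pow_eq_one
      rw [h0, zero_pow hM0.ne'] at h'
      exact zero_ne_one h'
    have hiff : w = 1 ↔ a * Fintype.card F ^ i ≡ b * Fintype.card F ^ j [MOD M] := by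
      rw [hw, mul_inv_eq_one₀ (pow_ne_zero _ hz0), ← hzord]
      exact (orderOf_pos_iff.1 (by omega : 0 < orderOf z)).pow_eq_pow_iff_modEq
    split_ifs with hmod
    · rw [hiff.2 hmod]
      simp only [one_pow, Finset.sum_const, Finset.card_range, nsmul_eq_mul, mul_one]
      rw [hM, Nat.cast_sub (by omega), Nat.cast_pow, Nat.cast_one]
    · have hw1 : w ≠ 1 := fun h1 => hmod (hiff.1 h1)
      have hwM : w ^ M = 1 := by
        rw [hw, mul_pow, inv_pow, ← pow_mul, ← pow_mul, mul_comm _ M, pow_mul, hzprim.pow_eq_one, one_pow,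
          mul_comm _ M, pow_mul, hzprim.pow_eq_one, one_pow, inv_one, one_mul]
      rw [geom_sum_eq hw1, hwM, sub_self, zero_div, mul_zero]
  · intro s hs t ht hst
    rw [Finset.mem_coe, Finset.mem_range] at hs ht
    exact pow_injOn_Iio_orderOf (by rw [h.order]; exact hs) (by rw [h.order]; exact ht) hst

end CfsgLib.CuspidalGL
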