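import Cfsg.Agent.Lib.SteinbergValues.Mobius

/-! The Möbius function of an isotypic endomorphism and two weighted sums over invariant subspaces. -/

set_option autoImplicit false

namespace CfsgLib.CuspidalGL

open Module Finset Polynomial UniqueFactorizationMonoid CfsgLib.SteinbergValues

variable {F : Type*} [Field F] {V : Type*} [AddCommGroup V] [Module F V]

/-- Two functions with the Möbius recursion agree on invariant subspaces. -/
theorem isMu_unique [Finite V] {g : End F V} {T T' : Submodule F V → ℤ} (hT : IsMu g T) (hT' : IsMu g T') :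
    ∀ U ∈ invs g, T U = T' U := by
  classical
  suffices ∀ k, ∀ U ∈ invs g, finrank F U + k = finrank F V → T U = T' U from
    fun U hU => this (finrank F V - finrank F U) U hU (by have := Submodule.finrank_le U; omega)
  intro k
  induction k using Nat.strong_induction_on with
  | _ k ih =>
    intro U hU hk
    rcases eq_or_ne U ⊤ with rfl | hne
    · rw [hT.1, hT'.1]
    have h := hT.2 U hU hne ((invs g).filter (U ≤ ·)) (fun W => by simp)
    have h' := hT'.2 U hU hne ((invs g).filter (U ≤ ·)) (fun W => by simp)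
    have hmem : U ∈ (invs g).filter (U ≤ ·) := Finset.mem_filter.2 ⟨hU, le_rfl⟩
    rw [← Finset.add_sum_erase _ _ hmem] at h h'
    have hsum : ∑ W ∈ ((invs g).filter (U ≤ ·)).erase U, T W = ∑ W ∈ ((invs g).filter (U ≤ ·)).erase U, T' W := by
      refine Finset.sum_congr rfl fun W hW => ?_
      obtain ⟨hne', hW'⟩ := Finset.mem_erase.1 hW
      obtain ⟨hW1, hW2⟩ := Finset.mem_filter.1 hW'
      have := Submodule.finrank_lt_finrank_of_lt (lt_of_le_of_ne hW2 (Ne.symm hne'))
      have := Submodule.finrank_le W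
      exact ih (finrank F V - finrank F W) (by omega) W hW1 (by omega)
    linarith

theorem comap_mem_invs [Finite V] {V' : Type*} [AddCommGroup V'] [Module F V'] [Finite V'] {g : End F V}
    {g' : End F V'} {π : V →ₗ[F] V'} (hπg : ∀ v, π (g v) = g' (π v)) {Y : Submodule F V'} (hY : Y ∈ invs g') :
    Y.comap π ∈ invs g :=
  mem_invs.2 fun v hv => by
    rw [Submodule.mem_comap] at hv ⊢
    rw [hπg]
    exact mem_invs.1 hY _ hv

theorem map_mem_invs [Finite V] {V' : Type*} [AddCommGroup V'] [Module F V'] [Finite V'] {g : End F V}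
    {g' : End F V'} {π : V →ₗ[F] V'} (hπg : ∀ v, π (g v) = g' (π v)) {U : Submodule F V} (hU : U ∈ invs g) :
    U.map π ∈ invs g' :=
  mem_invs.2 (by
    rintro _ ⟨v, hv, rfl⟩
    exact ⟨g v, mem_invs.1 hU v hv, hπg v⟩)

/-- The Möbius function only depends on the quotient. -/
theorem mu_map [Finite V] {V' : Type*} [AddCommGroup V'] [Module F V'] [Finite V'] {g : End F V}
    {g' : End F V'} {π : V →ₗ[F] V'} (hπ : Function.Surjective π) (hπg : ∀ v, π (g v) = g' (π v))
    {U : Submodule F V} (hU : U ∈ invs g) (hker : LinearMap.ker π ≤ U) :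
    mu g U = mu g' (U.map π) := by
  classical
  have hT : IsMu g' (fun Y => mu g (Y.comap π)) := by
    refine ⟨by simp [mu_top], fun Y hY hne S hS => ?_⟩
    have hne' : Y.comap π ≠ ⊤ := fun h => hne (by
      rw [← Submodule.map_comap_eq_of_surjective hπ Y, h, Submodule.map_top, LinearMap.range_eq_top.2 hπ])
    have h := (isMu_mu g).2 _ (comap_mem_invs hπg hY) hne' (S.image (fun Y' => Y'.comap π)) fun W => by
      rw [Finset.mem_image]
      constructor
      · rintro ⟨Y', hY', rfl⟩
        exact ⟨comap_mem_invs hπg ((hS Y').1 hY').1, Submodule.comap_mono ((hS Y').1 hY').2⟩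
      · rintro ⟨hW, hYW⟩
        refine ⟨W.map π, (hS _).2 ⟨map_mem_invs hπg hW, ?_⟩, ?_⟩
        · rw [← Submodule.map_comap_eq_of_surjective hπ Y]
          exact Submodule.map_mono hYW
        · rw [Submodule.comap_map_eq, sup_eq_left.2]
          exact (LinearMap.ker_le_comap π).trans hYW
    rwa [Finset.sum_image fun a _ b _ hab => Submodule.comap_injective_of_surjective hπ hab] at h
  rw [← isMu_unique hT (isMu_mu g') _ (map_mem_invs hπg hU), Submodule.comap_map_eq, sup_eq_left.2 hker]

/-- Sums of the Möbius function against functions of the intersection with a proper subspace vanish. -/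
theorem sum_mu_mul_inf [Finite V] {R : Type*} [Ring R] {g : End F V} {H : Submodule F V} (hH : H ∈ invs g)
    (hne : H ≠ ⊤) (φ : Submodule F V → R) : ∑ W ∈ invs g, (mu g W : R) * φ (W ⊓ H) = 0 := by
  classical
  rw [← Finset.sum_fiberwise_of_maps_to (t := (invs g).filter (· ≤ H)) (g := fun W => W ⊓ H)
    (fun W hW => Finset.mem_filter.2 ⟨inf_mem_invs hW hH, inf_le_right⟩)]
  refine Finset.sum_eq_zero fun X hX => ?_
  obtain ⟨hX1, hX2⟩ := Finset.mem_filter.1 hX
  rw [Finset.sum_congr rfl (g := fun W => (mu g W : R) * φ X) (fun W hW => by rw [(Finset.mem_filter.1 hW).2]),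
    ← Finset.sum_mul, ← Int.cast_sum]
  rw [weisner (isMu_mu g) hH hne (finrank F H - finrank F X) X
    (by have := Submodule.finrank_mono hX2; omega) hX1 hX2 _ (fun W => ?_)]
  · simp
  · rw [Finset.mem_filter]
    exact ⟨fun h => ⟨h.1, h.2 ▸ inf_le_left, h.2⟩, fun h => ⟨h.1, h.2.2⟩⟩

theorem range_aeval_mem_invs [Finite V] (g : End F V) (f : F[X]) : LinearMap.range (aeval g f) ∈ invs g :=
  mem_invs.2 (by
    rintro _ ⟨v, rfl⟩
    refine ⟨g v, ?_⟩
    rw [← End.mul_apply, ← End.mul_apply]
    exact LinearMap.congr_fun (show aeval g f * g = g * aeval g f by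
      have h := ((Commute.all f X).map (aeval g)).eq
      rwa [aeval_X] at h) v)

/-- The Möbius function vanishes below the radical. -/
theorem mu_eq_zero [Finite V] {g : End F V} {f : F[X]} {k : ℕ} (hk : (aeval g f) ^ k = 0) :
    ∀ U ∈ invs g, ¬ LinearMap.range (aeval g f) ≤ U → mu g U = 0 := by
  classical
  set R := LinearMap.range (aeval g f) with hR
  suffices ∀ j, ∀ U ∈ invs g, finrank F U + j = finrank F V → ¬ R ≤ U → mu g U = 0 from
    fun U hU h => this (finrank F V - finrank F U) U hU (by have := Submodule.finrank_le U; omega) h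
  intro j
  induction j using Nat.strong_induction_on with
  | _ j ih =>
    intro U hU hj hRU
    have hne : U ≠ ⊤ := fun h => hRU (h ▸ le_top)
    have hsup : U ⊔ R ∈ invs g := mem_invs.2 fun v hv => by
      obtain ⟨a, ha, b, hb, rfl⟩ := Submodule.mem_sup.1 hv
      rw [map_add]
      exact Submodule.add_mem_sup (mem_invs.1 hU a ha) (mem_invs.1 (range_aeval_mem_invs g f) b hb)
    have hsupne : U ⊔ R ≠ ⊤ := by
      intro htop
      have key : ∀ i, U ⊔ LinearMap.range ((aeval g f) ^ i) = ⊤ := by
        intro i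
        induction i with
        | zero => simp [End.one_eq_id]
        | succ i ih' =>
          refine eq_top_iff.2 fun v _ => ?_
          obtain ⟨a, ha, _, ⟨w, rfl⟩, rfl⟩ := Submodule.mem_sup.1 (htop ▸ Submodule.mem_top (x := v))
          obtain ⟨b, hb, _, ⟨w', rfl⟩, rfl⟩ := Submodule.mem_sup.1 (ih' ▸ Submodule.mem_top (x := w))
          rw [map_add, ← add_assoc]
          exact Submodule.add_mem_sup (U.add_mem ha (aeval_mem (mem_invs.1 hU) f b hb))
            ⟨w', by rw [pow_succ', End.mul_apply]⟩
      have := key k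
      rw [hk, LinearMap.range_zero, sup_bot_eq] at this
      exact hne this
    have h := (isMu_mu g).2 U hU hne ((invs g).filter (U ≤ ·)) (fun W => by simp)
    rw [← Finset.sum_filter_add_sum_filter_not ((invs g).filter (U ≤ ·)) (fun W => U ⊔ R ≤ W),
      (isMu_mu g).2 (U ⊔ R) hsup hsupne _ (fun W => by
        simp only [Finset.mem_filter]
        exact ⟨fun h => ⟨h.1.1, h.2⟩, fun h => ⟨⟨h.1, le_sup_left.trans h.2⟩, h.2⟩⟩), zero_add,
      Finset.sum_eq_single U] at h
    · exact h
    · intro W hW hWU
      simp only [Finset.mem_filter] at hW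
      have := Submodule.finrank_lt_finrank_of_lt (lt_of_le_of_ne hW.1.2 (Ne.symm hWU))
      have := Submodule.finrank_le W
      exact ih (finrank F V - finrank F W) (by omega) W hW.1.1 (by omega)
        fun hRW => hW.2 (sup_le hW.1.2 hRW)
    · intro hUnot
      refine absurd ?_ hUnot
      simp only [Finset.mem_filter]
      exact ⟨⟨hU, le_rfl⟩, fun h' => hRU (le_sup_right.trans h')⟩

/-- Only `f` divides the characteristic polynomial when `f(g)` is nilpotent. -/
theorem charpoly_eq_pow [FiniteDimensional F V] [DecidableEq F] {g : End F V} {f : F[X]} (hmon : f.Monic)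
    (hf : Irreducible f) {k : ℕ} (hk : (aeval g f) ^ k = 0) :
    ∃ j, g.charpoly = f ^ j ∧ normalizedFactors g.charpoly = Multiset.replicate j f ∧
      f.natDegree * j = finrank F V := by
  classical
  have hne := (LinearMap.charpoly_monic g).ne_zero
  have hall : ∀ f' ∈ normalizedFactors g.charpoly, f' = f := by
    intro f' hf'
    have hirr := irreducible_of_normalized_factor f' hf'
    have hmon' : f'.Monic := by
      rw [← normalize_normalized_factor f' hf']
      exact Polynomial.monic_normalize hirr.ne_zero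
    obtain ⟨v, hv0, hv⟩ := Semisimple.exists_kernel_vector g f' hirr (dvd_of_mem_normalizedFactors hf')
    by_contra hne'
    have hcop : IsCoprime f' (f ^ k) := ((hirr.coprime_iff_not_dvd).2 fun h =>
      hne' (Polynomial.eq_of_monic_of_associated hmon' hmon (hirr.associated_of_dvd hf h))).pow_right
    obtain ⟨a, b, hab⟩ := hcop
    have h1 := congrArg (fun P => aeval g P v) hab
    simp [hv, hk] at h1
    exact hv0 h1.symm
  refine ⟨Multiset.card (normalizedFactors g.charpoly), ?_, Multiset.eq_replicate_card.2 hall, ?_⟩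
  · have hprod := prod_normalizedFactors hne
    rw [Multiset.eq_replicate_card.2 hall, Multiset.prod_replicate] at hprod
    exact (Polynomial.eq_of_monic_of_associated (hmon.pow _) (LinearMap.charpoly_monic g) hprod).symm
  · have hprod := prod_normalizedFactors hne
    rw [Multiset.eq_replicate_card.2 hall, Multiset.prod_replicate] at hprod
    have h := congrArg Polynomial.natDegree
      (Polynomial.eq_of_monic_of_associated (hmon.pow _) (LinearMap.charpoly_monic g) hprod)
    rw [hmon.natDegree_pow, LinearMap.charpoly_natDegree, mul_comm] at h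
    exact h

/-- The value `(-1)^j Q^(j choose 2)`. -/
def cval (Q : ℤ) (j : ℕ) : ℤ := (-1) ^ j * Q ^ j.choose 2

theorem cval_succ (Q : ℤ) (j : ℕ) : cval Q (j + 1) = -(Q ^ j * cval Q j) := by
  simp only [cval, Nat.choose_succ_succ', Nat.choose_one_right, pow_succ, pow_add]
  ring

variable [Finite F] [DecidableEq F]

theorem pow_card_sub_one_of_isotypic {g : End F V} {f : F[X]} (hf : Irreducible f) (hfX : ¬ f ∣ X)
    (h0 : aeval g f = 0) : g ^ (Nat.card F ^ f.natDegree - 1) = 1 := by
  have hdvd : f ∣ X ^ (Nat.card F ^ f.natDegree - 1) - 1 := by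
    have h1 : f ∣ X ^ Nat.card F ^ f.natDegree - X :=
      hf.natDegree_dvd_iff_dvd_X_pow_card_pow_sub_X.1 dvd_rfl
    rw [show X ^ Nat.card F ^ f.natDegree - X = (X ^ (Nat.card F ^ f.natDegree - 1) - 1) * (X : F[X]) by
      rw [sub_mul, one_mul, ← pow_succ, Nat.sub_add_cancel (Nat.one_le_pow _ _ Nat.card_pos)]] at h1
    exact (hf.prime.dvd_or_dvd h1).resolve_right hfX
  obtain ⟨c, hc⟩ := hdvd
  have h := congrArg (aeval g) hc
  rw [map_mul, h0, zero_mul, map_sub, map_pow, aeval_X, map_one, sub_eq_zero] at h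
  exact h

/-- The Möbius function at the zero subspace of an isotypic semisimple endomorphism. -/
theorem mu_bot_isotypic [Finite V] {g : End F V} {f : F[X]} (hmon : f.Monic) (hf : Irreducible f)
    (hfX : ¬ f ∣ X) (h0 : aeval g f = 0) {j : ℕ} (hj : f.natDegree * j = finrank F V) :
    mu g ⊥ = cval ((Nat.card F : ℤ) ^ f.natDegree) j := by
  have := Fintype.ofFinite F
  have hk : ((Nat.card F ^ f.natDegree - 1 : ℕ) : F) ≠ 0 := by
    rw [Nat.cast_sub (Nat.one_le_pow _ _ Nat.card_pos), Nat.cast_pow, Nat.card_eq_fintype_card,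
      FiniteField.cast_card_eq_zero, zero_pow hf.natDegree_pos.ne']
    simp
  obtain ⟨j', -, hnf, hj'⟩ := charpoly_eq_pow hmon hf (k := 1) (by rw [pow_one, h0])
  obtain rfl : j' = j := Nat.eq_of_mul_eq_mul_left hf.natDegree_pos (hj'.trans hj.symm)
  rw [SteinbergValues.mu_bot hk _ g (mu g) rfl (pow_card_sub_one_of_isotypic hf hfX h0) (isMu_mu g), hnf, muValue, cval]
  rcases Nat.eq_zero_or_pos j' with rfl | hpos
  · simp
  · rw [Multiset.toFinset_replicate, if_neg hpos.ne', Finset.prod_singleton, Multiset.count_replicate_self,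
      ← pow_mul]

/-- The Möbius function of an endomorphism with nilpotent `f(g)`. -/
theorem mu_eq_cval [Finite V] {g : End F V} {f : F[X]} (hmon : f.Monic) (hf : Irreducible f) (hfX : ¬ f ∣ X)
    {U : Submodule F V} (hU : U ∈ invs g) (hR : LinearMap.range (aeval g f) ≤ U) {j : ℕ}
    (hj : finrank F U + f.natDegree * j = finrank F V) :
    mu g U = cval ((Nat.card F : ℤ) ^ f.natDegree) j := by
  have hfin : Finite (V ⧸ U) := Quotient.finite _
  let g' : End F (V ⧸ U) := U.mapQ U g fun v hv => mem_invs.1 hU v hv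
  have hπg : ∀ v, U.mkQ (g v) = g' (U.mkQ v) := fun v => rfl
  have hpoly : ∀ (P : F[X]) (v : V), U.mkQ (aeval g P v) = aeval g' P (U.mkQ v) := by
    intro P
    induction P using Polynomial.induction_on' with
    | add P Q hP hQ => intro v; simp only [map_add, LinearMap.add_apply, hP, hQ]
    | monomial i a =>
      induction i with
      | zero => intro v; simp [monomial_zero_left, Module.algebraMap_end_apply]
      | succ i ih =>
        intro v
        rw [← monomial_mul_X, map_mul, map_mul, End.mul_apply, End.mul_apply, ih, aeval_X, aeval_X, hπg]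
  have h0 : aeval g' f = 0 := by
    refine LinearMap.ext fun x => ?_
    obtain ⟨v, rfl⟩ := U.mkQ_surjective x
    rw [← hpoly, LinearMap.zero_apply, Submodule.mkQ_apply, Submodule.Quotient.mk_eq_zero]
    exact hR ⟨v, rfl⟩
  rw [mu_map U.mkQ_surjective hπg hU (by rw [Submodule.ker_mkQ]), Submodule.mkQ_map_self]
  refine mu_bot_isotypic hmon hf hfX h0 ?_
  have := U.finrank_quotient_add_finrank
  omega

/-- The second weighted sum. -/
def dval (Q : ℤ) : ℕ → ℤ → ℤ → ℤ
  | 0, _, _ => 0
  | l + 1, x, z => (x - z) * dval Q l x (Q * z) + x * ∏ i ∈ range l, (x - Q ^ (i + 1) * z)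

theorem dval_one (Q : ℤ) (l : ℕ) : dval Q (l + 1) 1 1 = ∏ i ∈ range l, (1 - Q ^ (i + 1)) := by
  simp [dval]

theorem dval_root (Q : ℤ) : ∀ (l : ℕ) (x z : ℤ), x = Q ^ l * z →
    dval Q (l + 1) x z = x * ∏ i ∈ range l, (x - Q ^ i * z) := by
  intro l
  induction l with
  | zero => intro x z h; simp [dval]
  | succ l ih =>
    intro x z h
    rw [dval, ih x (Q * z) (by rw [h, pow_succ]; ring), Finset.prod_range_succ' (fun i => x - Q ^ i * z),
      Finset.prod_range_succ (fun i => x - Q ^ (i + 1) * z), ← h, sub_self, mul_zero, mul_zero, add_zero,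
      pow_zero, one_mul]
    simp only [pow_succ, mul_assoc]
    ring

/-- The weighted sums over invariant subspaces of a semisimple isotypic endomorphism. -/
theorem weighted_sums {f : F[X]} (hmon : f.Monic) (hf : Irreducible f) (hfX : ¬ f ∣ X) :
    ∀ (l : ℕ) {V : Type*} [AddCommGroup V] [Module F V] [Finite V] (g : End F V) (jj kk : Submodule F V → ℕ),
      aeval g f = 0 → f.natDegree * l = finrank F V →
      (∀ W ∈ invs g, f.natDegree * kk W = finrank F W ∧ kk W + jj W = l) →
      ∀ x z : ℤ,
        (∑ W ∈ invs g, cval ((Nat.card F : ℤ) ^ f.natDegree) (jj W) * x ^ kk W * z ^ jj W =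
          ∏ i ∈ range l, (x - ((Nat.card F : ℤ) ^ f.natDegree) ^ i * z)) ∧
        (∑ W ∈ invs g, cval ((Nat.card F : ℤ) ^ f.natDegree) (jj W) * (kk W : ℤ) * x ^ kk W * z ^ jj W =
          dval ((Nat.card F : ℤ) ^ f.natDegree) l x z) := by
  classical
  set Q : ℤ := (Nat.card F : ℤ) ^ f.natDegree with hQ
  intro l
  induction l with
  | zero =>
    intro V _ _ _ g jj kk h0 hl hjk x z
    have : Subsingleton V := finrank_zero_iff.1 (by rw [← hl, mul_zero])
    have hinv : invs g = {⊤} := by
      ext W
      rw [Finset.mem_singleton, mem_invs]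
      exact ⟨fun _ => Subsingleton.elim _ _, fun h => h ▸ fun v _ => trivial⟩
    obtain ⟨h1, h2⟩ := hjk ⊤ (by rw [hinv]; simp)
    rw [hinv, Finset.sum_singleton, Finset.sum_singleton, show kk ⊤ = 0 by omega, show jj ⊤ = 0 by omega]
    simp [cval, dval]
  | succ l ih =>
    intro V _ _ _ g jj kk h0 hl hjk x z
    have hd := hf.natDegree_pos
    have := Fintype.ofFinite F
    have hk : ((Nat.card F ^ f.natDegree - 1 : ℕ) : F) ≠ 0 := by
      rw [Nat.cast_sub (Nat.one_le_pow _ _ Nat.card_pos), Nat.cast_pow, Nat.card_eq_fintype_card,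
        FiniteField.cast_card_eq_zero, zero_pow hd.ne']
      simp
    obtain ⟨m, -, hnf, hm⟩ := charpoly_eq_pow hmon hf (k := 1) (g := g) (by rw [pow_one, h0])
    have hdvd : f ∣ g.charpoly := by
      refine dvd_of_mem_normalizedFactors ?_
      rw [hnf, Multiset.mem_replicate]
      exact ⟨fun h => by rw [h, mul_zero] at hm; rw [← hm] at hl; simp [hd.ne'] at hl, rfl⟩
    have := Fact.mk hf
    have : FiniteDimensional F (AdjoinRoot f) := (AdjoinRoot.powerBasis hf.ne_zero).finite
    obtain ⟨H, hH, e, he⟩ := Semisimple.exists_decomposition g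
      (Semisimple.isSemisimple_of_pow_eq_one g hk (pow_card_sub_one_of_isotypic hf hfX h0)) f hmon hf hdvd
    have hHdim : f.natDegree + finrank F H = finrank F V := by
      rw [← e.finrank_eq, finrank_prod, finrank_adjoinRoot hf]
    have hHl : f.natDegree * l = finrank F H := by rw [← hl, mul_add, mul_one] at hHdim; omega
    have hHinv : H ∈ invs g := mem_invs.2 hH
    have hHne : H ≠ ⊤ := fun h => by rw [h, finrank_top] at hHdim; omega
    have h0' : aeval (g.restrict hH) f = 0 := LinearMap.ext fun v => by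
      have h1 := SteinbergValues.aeval_decomposition e he f ((0 : AdjoinRoot f), v)
      rw [h0, LinearMap.zero_apply, eq_comm, e.map_eq_zero_iff, Prod.mk_eq_zero] at h1
      simpa using h1.2
    -- values on subspaces of `H`
    let kk' : Submodule F H → ℕ := fun Y => kk (Y.map H.subtype)
    let jj' : Submodule F H → ℕ := fun Y => jj (Y.map H.subtype) - 1
    have hmap : ∀ Y ∈ invs (g.restrict hH), Y.map H.subtype ∈ invs g := fun Y hY =>
      map_mem_invs (π := H.subtype) (fun v => rfl) hY
    have hjk' : ∀ Y ∈ invs (g.restrict hH), f.natDegree * kk' Y = finrank F Y ∧ kk' Y + jj' Y = l ∧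
        jj (Y.map H.subtype) = jj' Y + 1 := by
      intro Y hY
      obtain ⟨h1, h2⟩ := hjk _ (hmap Y hY)
      rw [Submodule.finrank_map_subtype_eq] at h1
      have h3 : finrank F Y ≤ finrank F H := Y.finrank_le
      have h4 : kk (Y.map H.subtype) ≤ l := Nat.le_of_mul_le_mul_left (by rw [h1, hHl]; exact h3) hd
      exact ⟨h1, show kk (Y.map H.subtype) + (jj (Y.map H.subtype) - 1) = l by omega,
        show jj (Y.map H.subtype) = jj (Y.map H.subtype) - 1 + 1 by omega⟩
    have hIH := ih (g.restrict hH) jj' kk' h0' hHl (fun Y hY => ⟨(hjk' Y hY).1, (hjk' Y hY).2.1⟩) x (Q * z)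
    -- reduction to `H`
    have hmu : ∀ W ∈ invs g, mu g W = cval Q (jj W) := by
      intro W hW
      obtain ⟨h1, h2⟩ := hjk W hW
      refine mu_eq_cval hmon hf hfX hW (by rw [h0]; simp) ?_
      rw [← hl, ← h1, ← h2, mul_add]
    have hsup : ∀ W ∈ invs g, ¬ W ≤ H → finrank F W = finrank F (W ⊓ H : Submodule F V) + f.natDegree := by
      intro W hW hWH
      have hs : W ⊔ H ∈ invs g := mem_invs.2 fun v hv => by
        obtain ⟨a, ha, b, hb, rfl⟩ := Submodule.mem_sup.1 hv
        rw [map_add]
        exact Submodule.add_mem_sup (mem_invs.1 hW a ha) (hH b hb)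
      have h1 := (hjk _ hs).1
      have h2 : finrank F H < finrank F (W ⊔ H : Submodule F V) :=
        Submodule.finrank_lt_finrank_of_lt (lt_of_le_of_ne le_sup_right fun h => hWH (h ▸ le_sup_left))
      have h3 := Submodule.finrank_le (W ⊔ H)
      have h4 : l < kk (W ⊔ H) := Nat.lt_of_mul_lt_mul_left (hHl ▸ h1 ▸ h2 : f.natDegree * l < f.natDegree * kk (W ⊔ H))
      have h5 : finrank F (W ⊔ H : Submodule F V) = finrank F V := by
        refine le_antisymm h3 ?_
        rw [← h1, ← hl]
        exact Nat.mul_le_mul_left _ h4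
      have h6 := Submodule.finrank_sup_add_finrank_inf_eq W H
      omega
    have key : ∀ w : ℕ → ℕ → ℤ, ∑ W ∈ invs g, cval Q (jj W) * w (kk W) (jj W) =
        ∑ Y ∈ invs (g.restrict hH), cval Q (jj' Y) * (Q ^ jj' Y * (w (kk' Y + 1) (jj' Y) - w (kk' Y) (jj' Y + 1))) := by
      intro w
      rw [← Finset.sum_fiberwise_of_maps_to (t := (invs (g.restrict hH)).image (fun Y => Y.map H.subtype))
        (g := fun W => W ⊓ H) (fun W hW => Finset.mem_image.2 ⟨W.comap H.subtype,
          comap_mem_invs (π := H.subtype) (fun v => rfl) hW, by rw [Submodule.map_comap_subtype, inf_comm]⟩),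
        Finset.sum_image fun a _ b _ hab => Submodule.map_injective_of_injective H.injective_subtype hab]
      refine Finset.sum_congr rfl fun Y hY => ?_
      obtain ⟨hk1, hk2, hk3⟩ := hjk' Y hY
      set X' := Y.map H.subtype
      have hXH : X' ≤ H := Submodule.map_subtype_le H Y
      have hX : X' ∈ invs g := hmap Y hY
      have hmem : X' ∈ (invs g).filter (fun W => W ⊓ H = X') := Finset.mem_filter.2 ⟨hX, inf_eq_left.2 hXH⟩
      have hrest : ∀ W ∈ ((invs g).filter (fun W => W ⊓ H = X')).erase X', kk W = kk' Y + 1 ∧ jj W = jj' Y := by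
        intro W hW
        obtain ⟨hne, hW'⟩ := Finset.mem_erase.1 hW
        obtain ⟨hW1, hW2⟩ := Finset.mem_filter.1 hW'
        have h1 := hsup W hW1 (fun h => hne (by rw [← hW2, inf_eq_left.2 h]))
        rw [hW2, ← (hjk W hW1).1, ← (hjk X' hX).1, ← Nat.mul_succ] at h1
        have h2 : kk W = kk X' + 1 := Nat.eq_of_mul_eq_mul_left hd h1
        have h3 := (hjk W hW1).2
        have h4 := (hjk X' hX).2
        exact ⟨h2, show jj W = jj X' - 1 by omega⟩
      have hw := weisner (isMu_mu g) hHinv hHne (finrank F H - finrank F X') X'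
        (by have := Submodule.finrank_mono hXH; omega) hX hXH ((invs g).filter (fun W => W ⊓ H = X'))
        (fun W => by
          rw [Finset.mem_filter]
          exact ⟨fun h => ⟨h.1, h.2 ▸ inf_le_left, h.2⟩, fun h => ⟨h.1, h.2.2⟩⟩)
      rw [Finset.sum_congr rfl (fun W hW => hmu W (Finset.mem_filter.1 hW).1),
        ← Finset.add_sum_erase _ _ hmem] at hw
      rw [← Finset.add_sum_erase _ _ hmem, Finset.sum_congr rfl (g := fun W => cval Q (jj W) * w (kk' Y + 1) (jj' Y))
        (fun W hW => by rw [(hrest W hW).1, (hrest W hW).2]), ← Finset.sum_mul,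
        show kk X' = kk' Y from rfl, hk3]
      rw [hk3, cval_succ] at hw
      rw [cval_succ]
      linear_combination (w (kk' Y + 1) (jj' Y)) * hw
    constructor
    · simp only [mul_assoc]
      rw [key (fun k j => x ^ k * z ^ j), Finset.prod_range_succ', pow_zero, one_mul]
      rw [show ∏ i ∈ range l, (x - Q ^ (i + 1) * z) = ∏ i ∈ range l, (x - Q ^ i * (Q * z)) from
        Finset.prod_congr rfl fun i _ => by ring, ← hIH.1, Finset.sum_mul]
      refine Finset.sum_congr rfl fun Y _ => ?_
      rw [mul_pow, pow_succ x, pow_succ z]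
      ring
    · simp only [mul_assoc]
      rw [key (fun k j => (k : ℤ) * (x ^ k * z ^ j)), dval]
      have hprod : ∏ i ∈ range l, (x - Q ^ (i + 1) * z) = ∏ i ∈ range l, (x - Q ^ i * (Q * z)) :=
        Finset.prod_congr rfl fun i _ => by ring
      rw [hprod, ← hIH.1, ← hIH.2, Finset.mul_sum, Finset.mul_sum, ← Finset.sum_add_distrib]
      refine Finset.sum_congr rfl fun Y _ => ?_
      push_cast
      rw [mul_pow, pow_succ x, pow_succ z]
      ring

end CfsgLib.CuspidalGL
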