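import Cfsg.Agent.Lib.CuspidalGL.EigSum
import Cfsg.Agent.Lib.Char.Brauer
import Cfsg.Agent.Lib.Char.Monomial
import Cfsg.Agent.Lib.Char.Complete
import Cfsg.Agent.Lib.Char.Virtual

/-! The Brauer lift of the natural module of `GL_m(F)` is a generalized character. -/

set_option autoImplicit false

namespace CfsgLib.CuspidalGL

open Module Polynomial Finset UniqueFactorizationMonoid
open scoped ComplexConjugate

/-- A squarefree element divides `b` as soon as all its prime divisors do. -/
theorem dvd_of_squarefree {F : Type*} [Field F] {a b : F[X]} (ha : Squarefree a) (hb : b ≠ 0)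
    (h : ∀ f : F[X], f.Monic → Irreducible f → f ∣ a → f ∣ b) : a ∣ b := by
  classical
  have ha0 : a ≠ 0 := ha.ne_zero
  rw [dvd_iff_normalizedFactors_le_normalizedFactors ha0 hb,
    Multiset.le_iff_subset ((squarefree_iff_nodup_normalizedFactors ha0).1 ha)]
  intro f hf
  have hirr := irreducible_of_normalized_factor f hf
  have hnorm := normalize_normalized_factor f hf
  have hmon : f.Monic := hnorm ▸ Polynomial.monic_normalize hirr.ne_zero
  exact Multiset.mem_of_le (le_refl _) ((mem_normalizedFactors_iff' hb).2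
    ⟨hirr, hnorm, h f hmon hirr (dvd_of_mem_normalizedFactors hf)⟩)

/-- In a finite nilpotent group the projection on the `p'`-part is a power map. -/
theorem exists_pow_projection {E : Type*} [Group E] [Finite E] [Group.IsNilpotent E] {p : ℕ} (hp : p.Prime) :
    ∃ (a h c : ℕ), Nat.card E = p ^ a * h ∧ ¬ p ∣ h ∧ c ≡ 0 [MOD p ^ a] ∧ c ≡ 1 [MOD h] ∧
      ∀ x y : E, (x * y) ^ c = x ^ c * y ^ c := by
  classical
  obtain ⟨a, h, hh, hcard⟩ := Nat.exists_eq_pow_mul_and_not_dvd (Nat.card_pos (α := E)).ne' p hp.ne_one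
  obtain ⟨c, hc0, hc1⟩ := Nat.chineseRemainder (show (p ^ a).Coprime h from
    (hp.coprime_iff_not_dvd.2 hh).pow_left a) 0 1
  refine ⟨a, h, c, hcard, hh, hc0, hc1, ?_⟩
  obtain ⟨e⟩ := ((Group.isNilpotent_of_finite_tfae (G := E)).out 0 4).mp (inferInstance : Group.IsNilpotent E)
  intro x y
  obtain ⟨u, rfl⟩ := e.surjective x
  obtain ⟨v, rfl⟩ := e.surjective y
  rw [← map_mul, ← map_pow, ← map_pow, ← map_pow, ← map_mul]
  congr 1
  funext r P
  have hr : (r : ℕ).Prime := Nat.prime_of_mem_primeFactors r.2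
  have := Fact.mk hr
  simp only [Pi.pow_apply, Pi.mul_apply]
  have hdvd : Nat.card (P : Subgroup E) ∣ p ^ a * h := hcard ▸ (P : Subgroup E).card_subgroup_dvd_card
  obtain ⟨b, hb⟩ := (IsPGroup.iff_card (p := (r : ℕ))).1 P.isPGroup'
  by_cases hrp : (r : ℕ) = p
  · have h1 : ∀ w : (P : Subgroup E), w ^ c = 1 := by
      intro w
      have hba : Nat.card (P : Subgroup E) ∣ p ^ a := by
        rw [hb, hrp] at hdvd ⊢
        exact ((hp.coprime_iff_not_dvd.2 hh).pow_left b).dvd_of_dvd_mul_right hdvd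
      exact orderOf_dvd_iff_pow_eq_one.1 ((orderOf_dvd_natCard w).trans (hba.trans (Nat.modEq_zero_iff_dvd.1 hc0)))
    rw [h1, h1, h1, one_mul]
  · have h1 : ∀ w : (P : Subgroup E), w ^ c = w := by
      intro w
      have hbh : Nat.card (P : Subgroup E) ∣ h := by
        rw [hb] at hdvd ⊢
        exact (((Nat.coprime_primes hr hp).2 hrp).pow b a).dvd_of_dvd_mul_left hdvd
      conv_rhs => rw [← pow_one w]
      exact pow_eq_pow_iff_modEq.2 (hc1.of_dvd ((orderOf_dvd_natCard w).trans hbh))
    rw [h1, h1, h1]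

/-- A class function on a nilpotent group with integral inner products against induced linear characters is a
generalized character. -/
theorem isGeneralizedCharacter_of_linear {K : Type*} [Group K] [Finite K] [Group.IsNilpotent K] {ψ : K → ℂ}
    (hψ : Cfsg.IsClassFunction K ψ)
    (h : ∀ (U : Subgroup K) [Fintype U] (lam : U →* ℂˣ),
      ∃ k : ℤ, ∑ u : U, ψ u * conj (lam u : ℂ) = (Nat.card U : ℂ) * k) :
    Cfsg.IsGeneralizedCharacter K ψ := by
  classical
  have := Fintype.ofFinite K
  rw [CfsgLib.Char.IsClassFunction.eq_sum_classInner hψ]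
  refine CfsgLib.Char.IsGeneralizedCharacter.sum _ _ fun χ _ => ?_
  obtain ⟨U, lam, hlam⟩ := CfsgLib.Monomial.exists_linear_indFun (χ : K → ℂ) χ.2
  obtain ⟨k, hk⟩ := h U lam
  have hval : Cfsg.classInner ψ (χ : K → ℂ) = (k : ℂ) := by
    rw [← CfsgLib.Char.classInner_conj_symm (χ : K → ℂ) ψ, hlam, CfsgLib.Char.classInner_indFun _ _ _ hψ,
      CfsgLib.Char.classInner_conj_symm]
    rw [Cfsg.classInner, hk, inv_mul_cancel_left₀ (Nat.cast_ne_zero.2 Nat.card_pos.ne')]
  rw [hval]
  exact CfsgLib.Char.IsGeneralizedCharacter.intCast_smul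
    (CfsgLib.Char.IsIrrCharacter.isGeneralizedCharacter χ.2) k

variable {F : Type*} [Field F] [Fintype F] {L : Type*} [Field L] [Fintype L] [Algebra F L]

/-- The sum of the lifts of the roots. -/
noncomputable def liftPoly (θ : MulChar L ℂ) (P : F[X]) : ℂ :=
  ∑ α : L, ((P.map (algebraMap F L)).rootMultiplicity α : ℂ) * θ α

theorem liftPoly_mul (θ : MulChar L ℂ) {P Q : F[X]} (h : P * Q ≠ 0) :
    liftPoly θ (P * Q) = liftPoly θ P + liftPoly θ Q := by
  simp only [liftPoly, ← Finset.sum_add_distrib, ← add_mul]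
  refine Finset.sum_congr rfl fun α _ => ?_
  rw [Polynomial.map_mul, rootMultiplicity_mul, Nat.cast_add]
  rw [← Polynomial.map_mul]
  exact Polynomial.map_ne_zero h

theorem liftPoly_one (θ : MulChar L ℂ) : liftPoly θ (1 : F[X]) = 0 := by
  refine Finset.sum_eq_zero fun α _ => ?_
  rw [Polynomial.map_one, rootMultiplicity_eq_zero (by simp), Nat.cast_zero, zero_mul]

theorem pow_units_eq_one {m N : ℕ} (hL : Nat.card L = Nat.card F ^ N) (hN : ∀ d, 1 ≤ d → d ≤ m → d ∣ N)
    (g : GL (Fin m) F) (hg : ((orderOf g : ℕ) : F) ≠ 0) : g ^ Nat.card Lˣ = 1 := by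
  classical
  have hb : (X ^ Nat.card Lˣ - 1 : F[X]) ≠ 0 :=
    (monic_X_pow_sub_C (1 : F) Nat.card_pos.ne').ne_zero
  have hsq : Squarefree (minpoly F (g : Matrix (Fin m) (Fin m) F)) :=
    Squarefree.squarefree_of_dvd (minpoly.dvd F _ (p := X ^ orderOf g - 1) (by
      rw [map_sub, map_pow, aeval_X, map_one, ← Units.val_pow_eq_pow_val, pow_orderOf_eq_one, Units.val_one,
        sub_self])) (X_pow_sub_one_separable_iff.2 hg).squarefree
  have hdvd := dvd_of_squarefree hsq hb fun f hmon hf hfd => by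
    have hint : IsIntegral F (g : Matrix (Fin m) (Fin m) F) := Algebra.IsIntegral.isIntegral _
    have hdeg : f.natDegree ≤ m := by
      refine (natDegree_le_of_dvd (hfd.trans (Matrix.minpoly_dvd_charpoly _))
        (Matrix.charpoly_monic _).ne_zero).trans ?_
      rw [Matrix.charpoly_natDegree_eq_dim, Fintype.card_fin]
    have h1 : f ∣ X ^ Nat.card F ^ N - X :=
      hf.natDegree_dvd_iff_dvd_X_pow_card_pow_sub_X.1 (hN _ hf.natDegree_pos hdeg)
    rw [← hL, show X ^ Nat.card L - X = (X ^ Nat.card Lˣ - 1) * (X : F[X]) by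
      rw [sub_mul, one_mul, ← pow_succ, Nat.card_units, Nat.sub_add_cancel Nat.card_pos]] at h1
    refine (hf.prime.dvd_or_dvd h1).resolve_right fun hX => ?_
    have h2 : f ∣ X ^ orderOf g - 1 := hfd.trans (minpoly.dvd F _ (by
      rw [map_sub, map_pow, aeval_X, map_one, ← Units.val_pow_eq_pow_val, pow_orderOf_eq_one, Units.val_one,
        sub_self]))
    have h3 : f ∣ (1 : F[X]) := by
      have h4 := dvd_sub (dvd_pow hX (orderOf_pos g).ne') h2
      rwa [sub_sub_cancel] at h4
    exact hf.not_isUnit (isUnit_of_dvd_one h3)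
  obtain ⟨c, hc⟩ := hdvd
  apply Units.ext
  have := congrArg (aeval (g : Matrix (Fin m) (Fin m) F)) hc
  rw [map_mul, minpoly.aeval, zero_mul, map_sub, map_pow, aeval_X, map_one, sub_eq_zero] at this
  simpa using this

theorem charpoly_pow_card_pow {m : ℕ} (A : Matrix (Fin m) (Fin m) F) (t : ℕ) :
    (A ^ Fintype.card F ^ t).charpoly = A.charpoly := by
  induction t with
  | zero => simp
  | succ t ih => rw [pow_succ, pow_mul, FiniteField.Matrix.charpoly_pow_card, ih]

theorem eigSum_map (θ : MulChar L ℂ) {m : ℕ} (A : Matrix (Fin m) (Fin m) F)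
    (h : (Matrix.toLin' (A.map (algebraMap F L))) ^ Nat.card Lˣ = 1) :
    eigSum θ (Matrix.toLin' (A.map (algebraMap F L))) = liftPoly θ A.charpoly := by
  refine Finset.sum_congr rfl fun α _ => ?_
  congr 2
  rw [← (isSemisimple_of_pow_units h).isFinitelySemisimple.maxGenEigenspace_eq_eigenspace,
    LinearMap.finrank_maxGenEigenspace_eq, Matrix.charpoly_toLin', Matrix.charpoly_map]

/-- The Brauer lift is a generalized character. -/
theorem isGeneralizedCharacter_lift (θ : MulChar L ℂ) (hθ : Function.Injective fun a : Lˣ => θ (a : L)) {m N : ℕ}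
    (hL : Nat.card L = Nat.card F ^ N) (hN : ∀ d, 1 ≤ d → d ≤ m → d ∣ N) :
    Cfsg.IsGeneralizedCharacter (GL (Fin m) F) fun g => liftPoly θ (g : Matrix (Fin m) (Fin m) F).charpoly := by
  classical
  set Φ : GL (Fin m) F → ℂ := fun g => liftPoly θ (g : Matrix (Fin m) (Fin m) F).charpoly
  have hcl : Cfsg.IsClassFunction (GL (Fin m) F) Φ := fun g x => by
    show liftPoly θ _ = liftPoly θ _
    congr 1
    rw [Units.val_mul, Units.val_mul, Matrix.coe_units_inv, Matrix.charpoly_units_conj]
  let p := ringChar F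
  have hp : p.Prime := CharP.char_is_prime F p
  have := Fact.mk hp
  refine CfsgLib.Char.isGeneralizedCharacter_of_elementary Φ hcl fun E r hr hE => ?_
  have := CfsgLib.Char.isNilpotent_of_isElementary hr hE
  obtain ⟨a, h, c, hcard, hh, hc0, hc1, hmul⟩ := exists_pow_projection (E := E) hp
  let π : E →* E := ⟨⟨fun x => x ^ c, one_pow c⟩, hmul⟩
  let K := π.range
  have hpt : ∃ t, p ^ a ∣ Fintype.card F ^ t := by
    obtain ⟨f, -, hf⟩ := FiniteField.card F p
    exact ⟨a, hf ▸ by rw [← pow_mul]; exact pow_dvd_pow p (Nat.le_mul_of_pos_left a f.pos)⟩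
  obtain ⟨t, ht⟩ := hpt
  have hΦ : ∀ x : E, Φ x = Φ (π x : E) := by
    intro x
    have h1 : (x : GL (Fin m) F) ^ (c * Fintype.card F ^ t) = (x : GL (Fin m) F) ^ (Fintype.card F ^ t) := by
      rw [← SubgroupClass.coe_pow, ← SubgroupClass.coe_pow]
      congr 1
      refine pow_eq_pow_iff_modEq.2 (Nat.ModEq.of_dvd (hcard ▸ orderOf_dvd_natCard x) ?_)
      refine (Nat.modEq_and_modEq_iff_modEq_mul ((hp.coprime_iff_not_dvd.2 hh).pow_left a)).1 ⟨?_, ?_⟩
      · exact (Nat.modEq_zero_iff_dvd.2 (ht.mul_left c)).trans (Nat.modEq_zero_iff_dvd.2 ht).symm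
      · simpa using hc1.mul_right (Fintype.card F ^ t)
    show liftPoly θ _ = liftPoly θ _
    congr 1
    have h2 := congrArg (fun y : GL (Fin m) F => (y : Matrix (Fin m) (Fin m) F).charpoly) h1
    simp only [pow_mul, Units.val_pow_eq_pow_val, charpoly_pow_card_pow] at h2
    exact h2.symm
  have hKnil : Group.IsNilpotent K := Subgroup.isNilpotent K
  have hψ : Cfsg.IsGeneralizedCharacter K fun y => Φ (y : E) := by
    refine isGeneralizedCharacter_of_linear (fun g x => hcl _ _) fun U _ lam => ?_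
    have hM : ∀ u : U, u ^ Nat.card Lˣ = 1 := by
      intro u
      apply Subtype.ext; apply Subtype.ext; apply Subtype.ext
      obtain ⟨x, hx⟩ := (u : K).2
      have hord : ((orderOf ((u : K) : E).1 : ℕ) : F) ≠ 0 := by
        rw [ne_eq, CharP.cast_eq_zero_iff F p]
        intro hdvd
        refine hh (hdvd.trans ?_)
        rw [Subgroup.orderOf_coe, ← hx]
        apply orderOf_dvd_of_pow_eq_one
        show (x ^ c) ^ h = 1
        rw [← pow_mul]
        exact orderOf_dvd_iff_pow_eq_one.1 ((orderOf_dvd_natCard x).trans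
          (hcard ▸ Nat.mul_dvd_mul_right (Nat.modEq_zero_iff_dvd.1 hc0) h))
      simpa using pow_units_eq_one hL hN ((u : K) : E).1 hord
    -- the twist by the lift of `lam`
    let toC : Lˣ →* ℂˣ := MulChar.toUnitHom θ
    have htoC : Function.Injective toC := fun x y hxy => hθ (by
      simpa [toC, MulChar.coe_toUnitHom] using congrArg Units.val hxy)
    have hrange : ∀ z : ℂˣ, z ^ Nat.card Lˣ = 1 → ∃ x, toC x = z := by
      intro z hz
      have : NeZero (Nat.card Lˣ) := ⟨Nat.card_pos.ne'⟩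
      let f : Lˣ → rootsOfUnity (Nat.card Lˣ) ℂ := fun x => ⟨toC x, by
        rw [mem_rootsOfUnity, ← map_pow, pow_card_eq_one', map_one]⟩
      have hfin : Finite (rootsOfUnity (Nat.card Lˣ) ℂ) := inferInstance
      have hf : Function.Bijective f := (Nat.bijective_iff_injective_and_card f).2
        ⟨fun x y hxy => htoC (congrArg Subtype.val hxy),
          ((Complex.isPrimitiveRoot_exp _ Nat.card_pos.ne').card_rootsOfUnity).symm⟩
      obtain ⟨x, hx⟩ := hf.2 ⟨z, by rwa [mem_rootsOfUnity]⟩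
      exact ⟨x, congrArg Subtype.val hx⟩
    have hlam : ∀ u : U, lam u ^ Nat.card Lˣ = 1 := fun u => by rw [← map_pow, hM, map_one]
    choose lam' hlam' using fun u => hrange (lam u) (hlam u)
    let ρ : Representation L U (Fin m → L) :=
      { toFun := fun u => ((lam' u)⁻¹ : Lˣ).val •
          Matrix.toLin' ((((u : K) : E).1 : Matrix (Fin m) (Fin m) F).map (algebraMap F L))
        map_one' := by
          have h1 : lam' 1 = 1 := htoC (by rw [hlam', map_one, map_one])
          simp [h1]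
          rfl
        map_mul' := fun u v => by
          have h1 : lam' (u * v) = lam' u * lam' v := htoC (by rw [map_mul, hlam', hlam', hlam', map_mul])
          simp only [h1, Subgroup.coe_mul, Units.val_mul, Matrix.map_mul, Matrix.toLin'_mul, mul_inv_rev]
          rw [smul_mul_smul_comm, mul_comm ((lam' v)⁻¹ : Lˣ).val]
          rfl }
    have hlin : ∀ u : U, (Matrix.toLin' ((((u : K) : E).1 : Matrix (Fin m) (Fin m) F).map (algebraMap F L))) ^
        Nat.card Lˣ = 1 := by
      intro u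
      show (Matrix.toLinAlgEquiv' ((algebraMap F L).mapMatrix (((u : K) : E).1 : Matrix (Fin m) (Fin m) F))) ^ _ = 1
      rw [← map_pow, ← map_pow, ← Units.val_pow_eq_pow_val, ← SubgroupClass.coe_pow, ← SubgroupClass.coe_pow,
        ← SubgroupClass.coe_pow, hM]
      simp
    obtain ⟨k, hk⟩ := sum_eigSum θ hθ _ ρ rfl (fun u => by
      show ((((lam' u)⁻¹ : Lˣ).val • _) : End L (Fin m → L)) ^ _ = 1
      rw [_root_.smul_pow, hlin, ← Units.val_pow_eq_pow_val, pow_card_eq_one', Units.val_one, one_smul])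
    refine ⟨k, ?_⟩
    rw [← hk]
    refine Finset.sum_congr rfl fun u _ => ?_
    show Φ _ * _ = eigSum θ (((lam' u)⁻¹ : Lˣ).val • _)
    rw [eigSum_smul θ (Units.ne_zero _), eigSum_map θ _ (hlin u), mul_comm]
    congr 1
    have h1 : θ ((lam' u)⁻¹ : Lˣ).val = ((lam u)⁻¹ : ℂˣ).val := by
      rw [← MulChar.coe_toUnitHom, map_inv, ← hlam']
    rw [h1, Units.val_inv_eq_inv_val, Complex.inv_eq_conj]
    exact Complex.norm_eq_one_of_pow_eq_one (by rw [← Units.val_pow_eq_pow_val, hlam, Units.val_one]) Nat.card_pos.ne'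
  have := CfsgLib.Char.IsGeneralizedCharacter.comp hψ π.rangeRestrict
  rw [show (fun e : E => Φ e) = fun e : E => Φ ((π.rangeRestrict e : K) : E) from funext hΦ]
  exact this

end CfsgLib.CuspidalGL
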