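import Cfsg.Agent.Lib.CuspidalGL.Transfer

/-! The sum of squared weights over the elements with a given primary characteristic polynomial. -/

set_option autoImplicit false

namespace CfsgLib.CuspidalGL

open Module Finset Polynomial CfsgLib.SteinbergValues

attribute [local instance] finite_linearMap

variable {F : Type*} [Field F] [Fintype F] [DecidableEq F]

/-- Units of the endomorphisms of `K^m` are `GL_m(K)`. -/
theorem card_units_end (K : Type*) [Field K] [Finite K] (m : ℕ) :
    Nat.card (End K (Fin m → K))ˣ = Nat.card (GL (Fin m) K) :=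
  Nat.card_congr (Units.mapEquiv (Matrix.toLinAlgEquiv' (R := K) (n := Fin m)).toMulEquiv).toEquiv.symm

theorem card_GL_int (K : Type*) [Field K] [Fintype K] (k : ℕ) :
    (Nat.card (GL (Fin (k + 1)) K) : ℤ) = ((Fintype.card K : ℤ) ^ (k + 1) - 1) *
      ((Fintype.card K : ℤ) ^ k * ∏ i ∈ range k, ((Fintype.card K : ℤ) ^ k - (Fintype.card K : ℤ) ^ i)) := by
  classical
  rw [Matrix.card_GL_field, Nat.cast_prod]
  have hle : ∀ i : Fin (k + 1), (((Fintype.card K) ^ (k + 1) - (Fintype.card K) ^ (i : ℕ) : ℕ) : ℤ) =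
      (Fintype.card K : ℤ) ^ (k + 1) - (Fintype.card K : ℤ) ^ (i : ℕ) := fun i => by
    rw [Nat.cast_sub (Nat.pow_le_pow_right Fintype.card_pos i.2.le), Nat.cast_pow, Nat.cast_pow]
  rw [Finset.prod_congr rfl (fun i _ => hle i),
    Fin.prod_univ_eq_prod_range (fun i => (Fintype.card K : ℤ) ^ (k + 1) - (Fintype.card K : ℤ) ^ i) (k + 1),
    Finset.prod_range_succ' , pow_zero, mul_comm]
  congr 1
  have h : ∀ i ∈ range k, (Fintype.card K : ℤ) ^ (k + 1) - (Fintype.card K : ℤ) ^ (i + 1) =
      (Fintype.card K : ℤ) * ((Fintype.card K : ℤ) ^ k - (Fintype.card K : ℤ) ^ i) := fun i _ => by ring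
  rw [Finset.prod_congr rfl h, Finset.prod_mul_distrib, Finset.prod_const, Finset.card_range]

variable {n : ℕ}

/-- The weight of a group element at the polynomial `f`. -/
noncomputable def glWeight (f : F[X]) (g : GL (Fin n) F) : ℤ :=
  pval ((Fintype.card F : ℤ) ^ f.natDegree)
    (finrank F (LinearMap.ker (aeval (Matrix.toLin' (g : Matrix (Fin n) (Fin n) F)) f)) / f.natDegree - 1)

theorem sum_weight_sq {f : F[X]} (hmon : f.Monic) (hf : Irreducible f) (hfX : ¬ f ∣ X) {k : ℕ}
    (hn : f.natDegree * (k + 1) = n) :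
    ((Fintype.card F : ℤ) ^ n - 1) *
        ∑ g ∈ Finset.univ.filter (fun g : GL (Fin n) F => (g : Matrix (Fin n) (Fin n) F).charpoly = f ^ (k + 1)),
          glWeight f g * glWeight f g =
      (k + 1 : ℤ) * (Nat.card (GL (Fin n) F) : ℤ) := by
  classical
  have := Fact.mk hf
  have hd := hf.natDegree_pos
  have hn0 : 0 < n := hn ▸ Nat.mul_pos hd k.succ_pos
  have : Nonempty (Fin n) := ⟨⟨0, hn0⟩⟩
  have := finite_adjoinRoot (F := F) hf
  have : Fintype (AdjoinRoot f) := Fintype.ofFinite _
  have : Fintype (End (AdjoinRoot f) (Fin (k + 1) → AdjoinRoot f)) := Fintype.ofFinite _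
  have : Fintype (End F (Fin n → F)) := Fintype.ofFinite _
  have : FiniteDimensional F (AdjoinRoot f) := (AdjoinRoot.powerBasis hf.ne_zero).finite
  obtain ⟨e⟩ : Nonempty ((Fin (k + 1) → AdjoinRoot f) ≃ₗ[F] (Fin n → F)) := by
    refine FiniteDimensional.nonempty_linearEquiv_of_finrank_eq ?_
    rw [Module.finrank_pi_fintype, finrank_adjoinRoot hf]
    simp [← hn, mul_comm]
  have hcard : Fintype.card (AdjoinRoot f) = Fintype.card F ^ f.natDegree := by
    rw [Fintype.card_eq_nat_card, Fintype.card_eq_nat_card, Module.natCard_eq_pow_finrank (K := F),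
      finrank_adjoinRoot hf]
  set Q : ℤ := (Fintype.card F : ℤ) ^ f.natDegree with hQ
  have hQK : (Fintype.card (AdjoinRoot f) : ℤ) = Q := by rw [hcard, Nat.cast_pow]
  have hT := sum_primary_transfer (f := f) e hfX hmon (j := k + 1) (by rw [finrank_fin_fun, hn])
    (fun x => pval Q (x / f.natDegree - 1) * pval Q (x / f.natDegree - 1))
  obtain ⟨h1, h2⟩ := sum_hval (K := AdjoinRoot f) (V := Fin (k + 1) → AdjoinRoot f) (k := k) (finrank_fin_fun _)
  have hS : ∑ g ∈ Finset.univ.filter (fun g : GL (Fin n) F => (g : Matrix (Fin n) (Fin n) F).charpoly = f ^ (k + 1)),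
      glWeight f g * glWeight f g =
      ∑ A ∈ Finset.univ.filter (fun A : End F (Fin n → F) => A.charpoly = f ^ (k + 1)),
        pval Q (finrank F (LinearMap.ker (aeval A f)) / f.natDegree - 1) *
          pval Q (finrank F (LinearMap.ker (aeval A f)) / f.natDegree - 1) := by
    refine Finset.sum_bij (fun g _ => Matrix.toLin' (g : Matrix (Fin n) (Fin n) F)) ?_ ?_ ?_ (fun g _ => rfl)
    · intro g hg
      rw [Finset.mem_filter] at hg ⊢
      exact ⟨Finset.mem_univ _, by rw [Matrix.charpoly_toLin']; exact hg.2⟩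
    · intro g _ g' _ h
      exact Units.ext (Matrix.toLin'.injective h)
    · intro A hA
      rw [Finset.mem_filter] at hA
      have hc : (LinearMap.toMatrix' A).charpoly = f ^ (k + 1) := by
        rw [← Matrix.charpoly_toLin', Matrix.toLin'_toMatrix']
        exact hA.2
      have hu : IsUnit (LinearMap.toMatrix' A) := by
        rw [Matrix.isUnit_iff_isUnit_det, isUnit_iff_ne_zero, Matrix.det_eq_sign_charpoly_coeff, hc,
          coeff_zero_eq_eval_zero, eval_pow]
        refine mul_ne_zero (pow_ne_zero _ (by simp)) (pow_ne_zero _ fun h0 => hfX ?_)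
        have : (X - C (0 : F)) ∣ f := dvd_iff_isRoot.2 h0
        rw [map_zero, sub_zero] at this
        exact ((irreducible_X.associated_of_dvd hf this).symm).dvd
      exact ⟨hu.unit, Finset.mem_filter.2 ⟨Finset.mem_univ _, hc⟩, by rw [IsUnit.unit_spec, Matrix.toLin'_toMatrix']⟩
  have hR : ∑ N ∈ Finset.univ.filter (fun N : End (AdjoinRoot f) (Fin (k + 1) → AdjoinRoot f) => IsNilpotent N),
      pval Q (f.natDegree * finrank (AdjoinRoot f) (LinearMap.ker N) / f.natDegree - 1) *
        pval Q (f.natDegree * finrank (AdjoinRoot f) (LinearMap.ker N) / f.natDegree - 1) =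
      (k + 1 : ℤ) * ((Q ^ k) * ∏ i ∈ range k, (Q ^ k - Q ^ i)) := by
    rw [← hQK, ← h1, ← h2]
    refine Finset.sum_congr rfl fun N _ => ?_
    rw [Nat.mul_div_cancel_left _ hd]
    rfl
  rw [hR, card_units_end, card_units_end, card_GL_int, hQK, ← pow_mul, hn] at hT
  rw [hS]
  have hne : Q ^ k * ∏ i ∈ range k, (Q ^ k - Q ^ i) ≠ 0 := by
    intro h0
    have h := card_GL_int (AdjoinRoot f) k
    rw [hQK, h0, mul_zero] at h
    exact Nat.card_pos.ne' (Int.natCast_eq_zero.1 h)
  refine mul_right_cancel₀ hne ?_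
  linear_combination hT

end CfsgLib.CuspidalGL
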