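import Cfsg.Agent.Lib.CuspidalGL.UnipotentSums
import Mathlib.LinearAlgebra.Matrix.GeneralLinearGroup.Card

/-! Transfer of sums over primary elements to sums over nilpotent endomorphisms over the extension field. -/

set_option autoImplicit false

namespace CfsgLib.CuspidalGL

open Module Finset Polynomial CfsgLib.SteinbergValues

attribute [local instance] finite_linearMap

variable {F : Type*} [Field F] [Fintype F] [DecidableEq F] {f : F[X]} [Fact (Irreducible f)]
variable {V : Type*} [AddCommGroup V] [Module F V] [Fintype V]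
variable {U : Type*} [AddCommGroup U] [Module (AdjoinRoot f) U] [Module F U] [IsScalarTower F (AdjoinRoot f) U]
  [Fintype U]

/-- Endomorphisms over the extension field as endomorphisms over the base field. -/
noncomputable def descend (e : U ≃ₗ[F] V) : End (AdjoinRoot f) U →+* End F V where
  toFun N := e.conj (N.restrictScalars F)
  map_one' := LinearMap.ext fun v => by simp [LinearEquiv.conj_apply]
  map_mul' a b := LinearMap.ext fun v => by simp [LinearEquiv.conj_apply]
  map_zero' := LinearMap.ext fun v => by simp [LinearEquiv.conj_apply]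
  map_add' a b := LinearMap.ext fun v => by simp [LinearEquiv.conj_apply]

theorem descend_apply (e : U ≃ₗ[F] V) (N : End (AdjoinRoot f) U) (u : U) :
    descend e N (e u) = e (N u) := by
  simp [descend, LinearEquiv.conj_apply]

theorem descend_injective (e : U ≃ₗ[F] V) : Function.Injective (descend (f := f) e) := fun a b h =>
  LinearMap.ext fun u => e.injective (by rw [← descend_apply e a, ← descend_apply e b, h])

/-- The standard semisimple element. -/
noncomputable def stdSemi (e : U ≃ₗ[F] V) : End F V :=
  descend e (AdjoinRoot.root f • (1 : End (AdjoinRoot f) U))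

theorem descend_commute (e : U ≃ₗ[F] V) (N : End (AdjoinRoot f) U) : Commute (stdSemi (f := f) e) (descend e N) := by
  show _ * _ = _ * _
  rw [stdSemi, ← map_mul, ← map_mul, smul_mul_assoc, one_mul, mul_smul_comm, mul_one]

theorem aeval_descend (e : U ≃ₗ[F] V) (A : End (AdjoinRoot f) U) (P : F[X]) :
    aeval (descend e A) P = descend e (aeval A (P.map (algebraMap F (AdjoinRoot f)))) := by
  induction P using Polynomial.induction_on' with
  | add P Q hP hQ => simp only [map_add, Polynomial.map_add, hP, hQ]
  | monomial i a =>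
    rw [map_monomial, aeval_monomial, aeval_monomial, map_mul, map_pow]
    congr 1
    refine LinearMap.ext fun v => ?_
    obtain ⟨u, rfl⟩ := e.surjective v
    rw [descend_apply, Module.algebraMap_end_apply, Module.algebraMap_end_apply, ← map_smul, algebraMap_smul]

theorem exists_descend_eq (e : U ≃ₗ[F] V) {B : End F V} (hB : Commute (stdSemi (f := f) e) B) :
    ∃ N, descend (f := f) e N = B := by
  let B' : End F U := e.symm.conj B
  have hB' : ∀ u, e (B' u) = B (e u) := fun u => by simp [B', LinearEquiv.conj_apply]
  have hroot : ∀ u, B' (AdjoinRoot.root f • u) = AdjoinRoot.root f • B' u := by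
    intro u
    apply e.injective
    have h1 : ∀ w, stdSemi (f := f) e (e w) = e (AdjoinRoot.root f • w) := fun w => by
      rw [stdSemi, descend_apply]; rfl
    rw [hB', ← h1, ← h1, hB', ← End.mul_apply, ← End.mul_apply, hB.eq]
  refine ⟨{ toFun := B', map_add' := map_add B', map_smul' := fun c u => ?_ }, LinearMap.ext fun v => ?_⟩
  · obtain ⟨P, rfl⟩ := AdjoinRoot.mk_surjective c
    induction P using Polynomial.induction_on' with
    | add P Q hP hQ => simp only [map_add, add_smul, hP, hQ, RingHom.id_apply]
    | monomial i a =>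
      induction i generalizing u with
      | zero =>
        rw [monomial_zero_left, AdjoinRoot.mk_C, ← AdjoinRoot.algebraMap_eq, RingHom.id_apply, algebraMap_smul,
          algebraMap_smul, map_smul]
      | succ i ih =>
        rw [← monomial_mul_X, map_mul, AdjoinRoot.mk_X, mul_smul, ih, RingHom.id_apply, hroot, RingHom.id_apply,
          mul_smul]
  · obtain ⟨u, rfl⟩ := e.surjective v
    rw [descend_apply]
    exact hB' u

theorem finrank_ker_descend (e : U ≃ₗ[F] V) (N : End (AdjoinRoot f) U) :
    finrank F (LinearMap.ker (descend e N)) = f.natDegree * finrank (AdjoinRoot f) (LinearMap.ker N) := by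
  have h : LinearMap.ker (descend e N) = ((LinearMap.ker N).restrictScalars F).map e.toLinearMap := by
    ext v
    obtain ⟨u, rfl⟩ := e.surjective v
    rw [Submodule.mem_map_equiv, e.symm_apply_apply, Submodule.restrictScalars_mem, LinearMap.mem_ker,
      LinearMap.mem_ker, descend_apply, e.map_eq_zero_iff]
  rw [h, LinearEquiv.finrank_map_eq, ← finrank_adjoinRoot (Fact.out : Irreducible f),
    Module.finrank_mul_finrank]
  exact ((LinearMap.ker N).restrictScalarsEquiv F (AdjoinRoot f) U).symm.restrictScalars F |>.finrank_eq.symm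

/-- A unit perturbation: `f(r + N) = N * unit`. -/
theorem aeval_root_add (hsep : f.derivative.map (algebraMap F (AdjoinRoot f)) ≠ 0)
    (hd : (f.derivative).eval₂ (algebraMap F (AdjoinRoot f)) (AdjoinRoot.root f) ≠ 0)
    {N : End (AdjoinRoot f) U} (hN : IsNilpotent N) :
    ∃ u, IsUnit u ∧ Commute N u ∧
      aeval (AdjoinRoot.root f • (1 : End (AdjoinRoot f) U) + N) (f.map (algebraMap F (AdjoinRoot f))) = N * u := by
  clear hsep
  set r := AdjoinRoot.root f
  set P := (f.map (algebraMap F (AdjoinRoot f))).comp (X + C r) with hP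
  have h0 : P.eval 0 = 0 := by
    rw [hP, eval_comp, eval_add, eval_X, eval_C, zero_add, eval_map, AdjoinRoot.algebraMap_eq, AdjoinRoot.eval₂_root]
  obtain ⟨R, hR⟩ : X ∣ P := X_dvd_iff.2 (by rwa [coeff_zero_eq_eval_zero])
  have h1 : R.eval 0 ≠ 0 := by
    have h := congrArg (fun p => (derivative p).eval 0) hR
    simp only [derivative_mul, derivative_X, one_mul, eval_add, eval_mul, eval_X, zero_mul, add_zero] at h
    rw [← h, hP, derivative_comp, derivative_add, derivative_X, derivative_C, add_zero, one_mul, eval_comp,
      eval_add, eval_X, eval_C, zero_add, derivative_map, eval_map]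
    exact hd
  refine ⟨aeval N R, ?_, by simpa using (Commute.all X R).map (aeval N), ?_⟩
  · obtain ⟨S, hS⟩ : X ∣ R - C (R.eval 0) := X_dvd_iff.2 (by rw [coeff_sub, coeff_C_zero, coeff_zero_eq_eval_zero, sub_self])
    rw [sub_eq_iff_eq_add.1 hS, map_add, map_mul, aeval_X, aeval_C, add_comm]
    refine IsNilpotent.isUnit_add_left_of_commute ?_ ((isUnit_iff_ne_zero.2 h1).map _) ?_
    · exact (show Commute N (aeval N S) by simpa using (Commute.all X S).map (aeval N)).isNilpotent_mul_right hN
    · exact (Algebra.commute_algebraMap_right _ _)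
  · have h := congrArg (aeval N) hR
    rw [hP, aeval_comp, map_add, aeval_X, aeval_C, map_mul, aeval_X, Algebra.algebraMap_eq_smul_one,
      add_comm] at h
    exact h

theorem pow_finrank_eq_zero {N : End F V} (hN : IsNilpotent N) : N ^ finrank F V = 0 := by
  have h : N.charpoly = X ^ finrank F V := ((LinearMap.charpoly_nilpotent_tfae N).out 0 1).1 hN
  simpa [h] using N.aeval_self_charpoly

variable [Fintype (End (AdjoinRoot f) U)] [Fintype (End F V)]

/-- The transfer. -/
theorem sum_primary_transfer (e : U ≃ₗ[F] V) (hfX : ¬ f ∣ X) (hmon : f.Monic) [Nontrivial V] {j : ℕ}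
    (hj : f.natDegree * j = finrank F V) {R : Type*} [CommRing R] (φ : ℕ → R)
    [DecidablePred fun N : End (AdjoinRoot f) U => IsNilpotent N]
    [DecidablePred fun A : End F V => A.charpoly = f ^ j] :
    (Nat.card (End (AdjoinRoot f) U)ˣ : R) *
        ∑ A ∈ Finset.univ.filter (fun A : End F V => A.charpoly = f ^ j), φ (finrank F (LinearMap.ker (aeval A f))) =
      (Nat.card (End F V)ˣ : R) *
        ∑ N ∈ Finset.univ.filter (fun N : End (AdjoinRoot f) U => IsNilpotent N),
          φ (f.natDegree * finrank (AdjoinRoot f) (LinearMap.ker N)) := by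
  classical
  have hf : Irreducible f := Fact.out
  obtain ⟨p, hp⟩ := CharP.exists F
  obtain ⟨a, hpp, hq⟩ := FiniteField.card F p
  have := Fact.mk hpp
  have : CharP (End F V) p := charP_of_injective_algebraMap (algebraMap F (End F V)).injective p
  have hd : (f.derivative).eval₂ (algebraMap F (AdjoinRoot f)) (AdjoinRoot.root f) ≠ 0 := by
    have hsep : f.Separable := PerfectField.separable_of_irreducible hf
    rw [← aeval_def]
    exact hsep.aeval_derivative_ne_zero (by rw [aeval_def, AdjoinRoot.algebraMap_eq, AdjoinRoot.eval₂_root])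
  have hsep' : f.derivative.map (algebraMap F (AdjoinRoot f)) ≠ 0 := fun h =>
    hd (by rw [← eval_map, h, eval_zero])
  set n := finrank F V with hn
  set q := Fintype.card F with hqdef
  have hqn : n ≤ q ^ n := le_of_lt (Nat.lt_pow_self Fintype.one_lt_card)
  have hpow : ∀ (A B : End F V), Commute A B → (A + B) ^ q ^ n = A ^ q ^ n + B ^ q ^ n := fun A B h => by
    rw [hq, ← pow_mul]
    exact add_pow_char_pow_of_commute (p := p) (n := a * n) h
  -- semisimple elements
  set S := Finset.univ.filter (fun s : End F V => aeval s f = 0) with hS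
  have hk0 : ((Nat.card F ^ f.natDegree - 1 : ℕ) : F) ≠ 0 := by
    rw [Nat.cast_sub (Nat.one_le_pow _ _ Nat.card_pos), Nat.cast_pow, Nat.card_eq_fintype_card,
      FiniteField.cast_card_eq_zero, zero_pow hf.natDegree_pos.ne']
    simp
  have hs0 : aeval (stdSemi (f := f) e) f = 0 := by
    obtain ⟨u, -, -, h⟩ := aeval_root_add hsep' hd (N := (0 : End (AdjoinRoot f) U)) IsNilpotent.zero
    rw [add_zero, zero_mul] at h
    rw [stdSemi, aeval_descend, h, map_zero]
  have hcharS : ∀ s ∈ S, s.charpoly = f ^ j := by
    intro s hs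
    obtain ⟨j', h1, -, h2⟩ := charpoly_eq_pow hmon hf (k := 1) (g := s) (by rw [pow_one]; exact (Finset.mem_filter.1 hs).2)
    rwa [Nat.eq_of_mul_eq_mul_left hf.natDegree_pos (h2.trans hj.symm)] at h1
  have hconj : ∀ s ∈ S, ∃ c : (End F V)ˣ, s = c * stdSemi (f := f) e * c⁻¹ := by
    intro s hs
    obtain ⟨c, hc⟩ := Semisimple.exists_similar hk0 n (stdSemi (f := f) e) s rfl
      (pow_card_sub_one_of_isotypic hf hfX hs0) (pow_card_sub_one_of_isotypic hf hfX (Finset.mem_filter.1 hs).2)
      (by rw [hcharS s hs, hcharS _ (Finset.mem_filter.2 ⟨Finset.mem_univ _, hs0⟩)])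
    refine ⟨⟨c.toLinearMap, c.symm.toLinearMap, LinearMap.ext fun v => c.apply_symm_apply v,
      LinearMap.ext fun v => c.symm_apply_apply v⟩, LinearMap.ext fun v => ?_⟩
    show s v = c (stdSemi (f := f) e (c.symm v))
    rw [hc, c.apply_symm_apply]
  choose c hc using hconj
  have hfix : ∀ s ∈ S, s ^ q ^ n = s := by
    intro s hs
    have h1 : s ^ Nat.card F ^ f.natDegree = s := by
      conv_lhs => rw [← Nat.sub_add_cancel (Nat.one_le_pow f.natDegree (Nat.card F) Nat.card_pos), pow_succ,
        pow_card_sub_one_of_isotypic hf hfX (Finset.mem_filter.1 hs).2, one_mul]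
    rw [← hj, pow_mul, hqdef, ← Nat.card_eq_fintype_card]
    have h2 : ∀ i, s ^ (Nat.card F ^ f.natDegree) ^ i = s := fun i => by
      induction i with
      | zero => simp
      | succ i ih => rw [pow_succ, pow_mul, ih, h1]
    exact h2 j
  -- counting the semisimple elements
  have hScard : (Nat.card (End (AdjoinRoot f) U)ˣ) * S.card = Nat.card (End F V)ˣ := by
    let orb : (End F V)ˣ → S := fun a => ⟨a * stdSemi (f := f) e * a⁻¹, Finset.mem_filter.2 ⟨Finset.mem_univ _, by
      have key : ∀ P : F[X], aeval ((a : End F V) * stdSemi (f := f) e * (a⁻¹ : (End F V)ˣ)) P =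
          a * aeval (stdSemi (f := f) e) P * (a⁻¹ : (End F V)ˣ) := by
        intro P
        induction P using Polynomial.induction_on' with
        | add P Q hP hQ => simp only [map_add, hP, hQ, mul_add, add_mul]
        | monomial i b =>
          rw [aeval_monomial, aeval_monomial, Units.conj_pow]
          simp only [mul_assoc]
          rw [← mul_assoc, Algebra.commutes, mul_assoc]
      rw [key, hs0, mul_zero, zero_mul]⟩⟩
    have hfib : ∀ s : S, Nat.card {a // orb a = s} = Nat.card (End (AdjoinRoot f) U)ˣ := by
      intro s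
      symm
      refine Nat.card_eq_of_bijective (fun M : (End (AdjoinRoot f) U)ˣ =>
        (⟨c s.1 s.2 * Units.map (descend e).toMonoidHom M, ?_⟩ : {a // orb a = s})) ⟨?_, ?_⟩
      · apply Subtype.ext
        show ((c s.1 s.2 * Units.map (descend e).toMonoidHom M : (End F V)ˣ) : End F V) * stdSemi (f := f) e *
          ((c s.1 s.2 * Units.map (descend e).toMonoidHom M)⁻¹ : (End F V)ˣ) = s.1
        rw [mul_inv_rev, Units.val_mul, Units.val_mul, mul_assoc ((c s.1 s.2 : (End F V)ˣ) : End F V),
          show ((Units.map (descend e).toMonoidHom M : (End F V)ˣ) : End F V) = descend e (M : End (AdjoinRoot f) U) from rfl,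
          ← (descend_commute e (M : End (AdjoinRoot f) U)).eq, mul_assoc, mul_assoc, ← mul_assoc (descend e (M : End (AdjoinRoot f) U)),
          show descend e (M : End (AdjoinRoot f) U) = ((Units.map (descend e).toMonoidHom M : (End F V)ˣ) : End F V) from rfl,
          Units.mul_inv, one_mul, ← mul_assoc]
        exact (hc s.1 s.2).symm
      · intro M M' h
        have h1 := mul_left_cancel (congrArg Subtype.val h)
        exact Units.ext (descend_injective e (congrArg Units.val h1))
      · rintro ⟨b, hb⟩
        set y := (c s.1 s.2)⁻¹ * b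
        have hy : Commute (stdSemi (f := f) e) (y : End F V) := by
          have h1 : (b : End F V) * stdSemi (f := f) e * (b⁻¹ : (End F V)ˣ) =
              c s.1 s.2 * stdSemi (f := f) e * ((c s.1 s.2)⁻¹ : (End F V)ˣ) :=
            (congrArg Subtype.val hb).trans (hc s.1 s.2)
          have h2 : (b : End F V) * stdSemi (f := f) e =
              c s.1 s.2 * stdSemi (f := f) e * ((c s.1 s.2)⁻¹ : (End F V)ˣ) * b := by
            rw [← h1, mul_assoc _ (((b⁻¹ : (End F V)ˣ)) : End F V), Units.inv_mul, mul_one]
          show _ * _ = _ * _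
          rw [show (y : End F V) = ((c s.1 s.2)⁻¹ : (End F V)ˣ) * b from rfl,
            mul_assoc (((c s.1 s.2)⁻¹ : (End F V)ˣ) : End F V), h2]
          simp only [mul_assoc, Units.inv_mul_cancel_left]
        have hy' : Commute (stdSemi (f := f) e) ((y⁻¹ : (End F V)ˣ) : End F V) := hy.units_inv_right
        obtain ⟨M, hM⟩ := exists_descend_eq e hy
        obtain ⟨M', hM'⟩ := exists_descend_eq e hy'
        refine ⟨⟨M, M', descend_injective e (by rw [map_mul, hM, hM', Units.mul_inv, map_one]),
          descend_injective e (by rw [map_mul, hM, hM', Units.inv_mul, map_one])⟩, Subtype.ext ?_⟩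
        show c s.1 s.2 * _ = b
        exact (congrArg (c s.1 s.2 * ·) (Units.ext hM)).trans (mul_inv_cancel_left _ _)
    rw [← Nat.card_congr (Equiv.sigmaFiberEquiv orb), Nat.card_sigma, Finset.sum_congr rfl (fun s _ => hfib s),
      Finset.sum_const, Finset.card_univ, Fintype.card_coe, smul_eq_mul, mul_comm]
  -- properties of `s + N`
  have hbasic : ∀ M : End (AdjoinRoot f) U, IsNilpotent M →
      (stdSemi (f := f) e + descend e M).charpoly = f ^ j ∧
      finrank F (LinearMap.ker (aeval (stdSemi (f := f) e + descend e M) f)) =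
        f.natDegree * finrank (AdjoinRoot f) (LinearMap.ker M) := by
    intro M hM
    obtain ⟨u, hu, hcomm, h⟩ := aeval_root_add hsep' hd hM
    have hT : aeval (stdSemi (f := f) e + descend e M) f = descend e (M * u) := by
      rw [stdSemi, ← map_add, aeval_descend, h]
    constructor
    · obtain ⟨m, hm⟩ := (hcomm.isNilpotent_mul_right hM).map (descend (f := f) e)
      obtain ⟨j', h1, -, h2⟩ := charpoly_eq_pow hmon hf (k := m) (g := stdSemi (f := f) e + descend e M) (by rw [hT, hm])
      rwa [Nat.eq_of_mul_eq_mul_left hf.natDegree_pos (h2.trans hj.symm)] at h1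
    · rw [hT, finrank_ker_descend]
      suffices hker : LinearMap.ker (M * u) = LinearMap.ker M by rw [hker]
      obtain ⟨u, rfl⟩ := hu
      ext x
      rw [hcomm.eq, LinearMap.mem_ker, End.mul_apply, LinearMap.mem_ker]
      refine ⟨fun h => ?_, fun h => by rw [h, map_zero]⟩
      have h1 := congrArg ((u⁻¹ : (End (AdjoinRoot f) U)ˣ) : End (AdjoinRoot f) U) h
      rwa [← End.mul_apply, Units.inv_mul, map_zero] at h1
  -- the general element
  let el : (s : S) → End (AdjoinRoot f) U → End F V := fun s M =>
    (c s.1 s.2 : End F V) * (stdSemi (f := f) e + descend e M) * ((c s.1 s.2)⁻¹ : (End F V)ˣ)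
  have hel : ∀ s M, IsNilpotent M → (el s M).charpoly = f ^ j ∧
      finrank F (LinearMap.ker (aeval (el s M) f)) = f.natDegree * finrank (AdjoinRoot f) (LinearMap.ker M) ∧
      (el s M) ^ q ^ n = s.1 := by
    intro s M hM
    let cE : V ≃ₗ[F] V := LinearMap.GeneralLinearGroup.generalLinearEquiv F V (c s.1 s.2)
    have hcE : el s M = cE.conj (stdSemi (f := f) e + descend e M) := rfl
    refine ⟨?_, ?_, ?_⟩
    · rw [hcE, LinearEquiv.charpoly_conj]
      exact (hbasic M hM).1
    · have hae : aeval (el s M) f = cE.conj (aeval (stdSemi (f := f) e + descend e M) f) := by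
        rw [hcE]
        exact aeval_algHom_apply (LinearEquiv.conjAlgEquiv F cE).toAlgHom _ f
      have hker : LinearMap.ker (aeval (el s M) f) =
          (LinearMap.ker (aeval (stdSemi (f := f) e + descend e M) f)).map cE.toLinearMap := by
        ext v
        rw [hae, Submodule.mem_map_equiv, LinearMap.mem_ker, LinearMap.mem_ker, LinearEquiv.conj_apply,
          LinearMap.comp_apply, LinearMap.comp_apply, LinearEquiv.coe_coe, LinearEquiv.coe_coe, cE.map_eq_zero_iff]
      rw [hker, LinearEquiv.finrank_map_eq]
      exact (hbasic M hM).2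
    · show ((c s.1 s.2 : End F V) * (stdSemi (f := f) e + descend e M) * ((c s.1 s.2)⁻¹ : (End F V)ˣ)) ^ q ^ n = s.1
      rw [Units.conj_pow, hpow _ _ (descend_commute e M), hfix _ (Finset.mem_filter.2 ⟨Finset.mem_univ _, hs0⟩),
        pow_eq_zero_of_le hqn (pow_finrank_eq_zero (hM.map (descend (f := f) e))), add_zero]
      exact (hc s.1 s.2).symm
  -- the bijection
  have hsum : ∑ A ∈ Finset.univ.filter (fun A : End F V => A.charpoly = f ^ j),
      φ (finrank F (LinearMap.ker (aeval A f))) =
      ∑ s : S, ∑ N ∈ Finset.univ.filter (fun N : End (AdjoinRoot f) U => IsNilpotent N),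
        φ (f.natDegree * finrank (AdjoinRoot f) (LinearMap.ker N)) := by
    rw [← Finset.sum_product']
    symm
    refine Finset.sum_bij (fun x _ => el x.1 x.2) ?_ ?_ ?_ ?_
    · intro x hx
      simp only [Finset.mem_product, Finset.mem_filter, Finset.mem_univ, true_and] at hx ⊢
      exact (hel x.1 x.2 hx).1
    · rintro ⟨s, M⟩ hx ⟨s', M'⟩ hx' h
      simp only [Finset.mem_product, Finset.mem_filter, Finset.mem_univ, true_and] at hx hx'
      obtain rfl : s = s' := Subtype.ext (by rw [← (hel s M hx).2.2, ← (hel s' M' hx').2.2]; exact congrArg (· ^ q ^ n) h)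
      have h1 := (Units.mul_right_inj _).1 ((Units.mul_left_inj _).1 h)
      rw [Prod.mk.injEq]
      exact ⟨rfl, descend_injective e (add_left_cancel h1)⟩
    · intro A hA
      have hA' : A.charpoly = f ^ j := (Finset.mem_filter.1 hA).2
      have hexp : ∀ i, aeval (A ^ q ^ i) f = (aeval A f) ^ q ^ i := by
        intro i
        induction i with
        | zero => simp
        | succ i ih =>
          rw [pow_succ, pow_mul, ← expand_aeval q f, FiniteField.expand_card, map_pow, ih, ← pow_mul]
      have hs : aeval (A ^ q ^ n) f = 0 := by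
        rw [hexp]
        have h1 : (aeval A f) ^ j = 0 := by rw [← map_pow, ← hA', A.aeval_self_charpoly]
        refine pow_eq_zero_of_le (le_trans ?_ hqn) h1
        rw [← hj]
        exact Nat.le_mul_of_pos_left j hf.natDegree_pos
      set s : S := ⟨A ^ q ^ n, Finset.mem_filter.2 ⟨Finset.mem_univ _, hs⟩⟩
      set B := ((c s.1 s.2)⁻¹ : (End F V)ˣ) * A * (c s.1 s.2 : End F V) with hB
      have hBs : B ^ q ^ n = stdSemi (f := f) e := by
        have key : ∀ (cc : (End F V)ˣ) (x : End F V), x = cc * stdSemi (f := f) e * (cc⁻¹ : (End F V)ˣ) →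
            (cc⁻¹ : (End F V)ˣ) * x * cc = stdSemi (f := f) e := by
          rintro cc x rfl
          simp only [mul_assoc, Units.inv_mul, mul_one, Units.inv_mul_cancel_left]
        rw [hB, Units.conj_pow']
        exact key _ _ (hc s.1 s.2)
      have hcomm : Commute (stdSemi (f := f) e) B := hBs ▸ Commute.pow_self B _
      obtain ⟨M, hM⟩ := exists_descend_eq e (hcomm.sub_right (Commute.refl _))
      have hMnil : IsNilpotent M := by
        refine ⟨q ^ n, descend_injective e ?_⟩
        rw [map_pow, hM, map_zero]
        have h1 := hpow (B - stdSemi (f := f) e) (stdSemi (f := f) e) (hcomm.symm.sub_left (Commute.refl _))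
        rw [sub_add_cancel, hBs, hfix _ (Finset.mem_filter.2 ⟨Finset.mem_univ _, hs0⟩)] at h1
        exact left_eq_add.1 (h1.trans (add_comm _ _))
      refine ⟨(s, M), by simp [hMnil], ?_⟩
      show (c s.1 s.2 : End F V) * _ * _ = A
      rw [hM, add_sub_cancel, hB]
      simp only [mul_assoc, Units.mul_inv, mul_one, Units.mul_inv_cancel_left]
    · intro x hx
      simp only [Finset.mem_product, Finset.mem_filter, Finset.mem_univ, true_and] at hx
      rw [(hel x.1 x.2 hx).2.1]
  rw [hsum, Finset.sum_const, Finset.card_univ, Fintype.card_coe, nsmul_eq_mul, ← mul_assoc, ← Nat.cast_mul, hScard]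

end CfsgLib.CuspidalGL
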