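import Cfsg.Agent.Lib.CuspidalGL.Value

/-! Sums over nilpotent endomorphisms and over linear maps by rank. -/

set_option autoImplicit false

namespace CfsgLib.CuspidalGL

open Module Finset Polynomial CfsgLib.SteinbergValues

variable {K : Type*} [Field K]

/-- `∏_{i=1}^{s} (1 - Q^i)`. -/
def pval (Q : ℤ) (s : ℕ) : ℤ := ∏ i ∈ range s, (1 - Q ^ (i + 1))

theorem pval_succ (Q : ℤ) (s : ℕ) : pval Q (s + 1) = pval Q s * (1 - Q ^ (s + 1)) :=
  Finset.prod_range_succ _ s

theorem finite_linearMap {A B : Type*} [AddCommGroup A] [Module K A] [Finite A] [AddCommGroup B] [Module K B]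
    [Finite B] : Finite (A →ₗ[K] B) :=
  Finite.of_injective _ DFunLike.coe_injective

attribute [local instance] finite_linearMap

variable [Fintype K] {V : Type*} [AddCommGroup V] [Module K V] [Fintype V]

/-- Adding a vector to a family either keeps or raises the rank. -/
theorem sum_span_cons (a : ℕ) (X : Fin a → V) (w : ℕ → ℤ) :
    ∑ v : V, w (finrank K (Submodule.span K (Set.range (Fin.cons v X)))) =
      (Fintype.card K : ℤ) ^ finrank K (Submodule.span K (Set.range X)) *
        (w (finrank K (Submodule.span K (Set.range X))) - w (finrank K (Submodule.span K (Set.range X)) + 1)) +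
      (Fintype.card K : ℤ) ^ finrank K V * w (finrank K (Submodule.span K (Set.range X)) + 1) := by
  classical
  set S := Submodule.span K (Set.range X) with hS
  have h1 : ∀ v : V, w (finrank K (Submodule.span K (Set.range (Fin.cons v X)))) =
      (if v ∈ S then w (finrank K S) - w (finrank K S + 1) else 0) + w (finrank K S + 1) := by
    intro v
    rw [Fin.range_cons, Submodule.span_insert, ← hS]
    split_ifs with hv
    · rw [sup_eq_right.2 ((Submodule.span_singleton_le_iff_mem _ _).2 hv), sub_add_cancel]
    · rw [zero_add]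
      congr 1
      have hv0 : v ≠ 0 := fun h => hv (h ▸ S.zero_mem)
      have h := Submodule.finrank_sup_add_finrank_inf_eq (K ∙ v) S
      rw [(Submodule.disjoint_span_singleton' hv0).2 hv |>.symm.eq_bot, finrank_bot, add_zero,
        finrank_span_singleton hv0] at h
      omega
  rw [Finset.sum_congr rfl fun v _ => h1 v, Finset.sum_add_distrib, Finset.sum_ite, Finset.sum_const_zero,
    add_zero, Finset.sum_const, Finset.sum_const, nsmul_eq_mul, nsmul_eq_mul, Finset.card_univ,
    ← Fintype.card_subtype, Fintype.card_eq_nat_card, Fintype.card_eq_nat_card, Fintype.card_eq_nat_card,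
    show Nat.card {x // x ∈ S} = Nat.card S from rfl, Module.natCard_eq_pow_finrank (K := K) (V := S),
    Module.natCard_eq_pow_finrank (K := K) (V := V)]
  push_cast
  ring

/-- The rank identity behind cuspidality. -/
theorem sum_pval_rank (hV : 1 ≤ finrank K V) : ∀ a : ℕ,
    ∑ X : Fin (a + 1) → V,
      pval (Fintype.card K) (a + finrank K V - finrank K (Submodule.span K (Set.range X))) = 0 := by
  classical
  have hrank : ∀ a (X : Fin a → V), finrank K (Submodule.span K (Set.range X)) ≤ a ∧
      finrank K (Submodule.span K (Set.range X)) ≤ finrank K V := fun a X =>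
    ⟨(finrank_range_le_card X).trans_eq (Fintype.card_fin a), Submodule.finrank_le _⟩
  have hstep : ∀ a : ℕ, ∑ X : Fin (a + 1) → V,
      pval (Fintype.card K) (a + finrank K V - finrank K (Submodule.span K (Set.range X))) =
      ((Fintype.card K : ℤ) ^ finrank K V - (Fintype.card K : ℤ) ^ (a + finrank K V)) *
        ∑ X : Fin a → V, pval (Fintype.card K) (a + finrank K V - 1 - finrank K (Submodule.span K (Set.range X))) := by
    intro a
    rw [← Equiv.sum_comp (Fin.consEquiv fun _ => V), Fintype.sum_prod_type, Finset.sum_comm, Finset.mul_sum]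
    refine Finset.sum_congr rfl fun X _ => ?_
    refine Eq.trans (show _ = ∑ v : V, (fun r => pval (Fintype.card K : ℤ) (a + finrank K V - r))
      (finrank K (Submodule.span K (Set.range (Fin.cons v X)))) from rfl)
      ((sum_span_cons a X (fun r => pval (Fintype.card K : ℤ) (a + finrank K V - r))).trans ?_)
    obtain ⟨h1, h2⟩ := hrank a X
    set r := finrank K (Submodule.span K (Set.range X))
    obtain ⟨s, hs⟩ : ∃ s, a + finrank K V - r = s + 1 := ⟨a + finrank K V - r - 1, by omega⟩
    rw [hs, show a + finrank K V - (r + 1) = s by omega, show a + finrank K V - 1 - r = s by omega, pval_succ,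
      show a + finrank K V = r + (s + 1) by omega, pow_add]
    ring
  intro a
  induction a with
  | zero => rw [hstep, zero_add, sub_self, zero_mul]
  | succ a ih =>
    rw [hstep, show a + 1 + finrank K V - 1 = a + finrank K V by omega, ih, mul_zero]

/-- The rank identity for linear maps. -/
theorem sum_pval_linearMap {A : Type*} [AddCommGroup A] [Module K A] [Fintype A] [Fintype (A →ₗ[K] V)]
    (hA : 1 ≤ finrank K A) (hV : 1 ≤ finrank K V) :
    ∑ φ : A →ₗ[K] V,
      pval (Fintype.card K) (finrank K A + finrank K V - 1 - finrank K (LinearMap.range φ)) = 0 := by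
  classical
  obtain ⟨a, ha⟩ : ∃ a, finrank K A = a + 1 := ⟨finrank K A - 1, by omega⟩
  let b : Basis (Fin (a + 1)) K A := (finBasis K A).reindex (finCongr ha)
  rw [← sum_pval_rank hV a, ← Equiv.sum_comp (b.constr ℕ).toEquiv]
  refine Finset.sum_congr rfl fun X _ => ?_
  rw [LinearEquiv.coe_toEquiv, Basis.constr_range, ha, show a + 1 + finrank K V - 1 = a + finrank K V by omega]

variable [DecidableEq K]

theorem sum_all_submodules [Fintype (Submodule K V)] (x z : ℤ) {k : ℕ} (hk : finrank K V = k) :
    (∑ W : Submodule K V, cval (Fintype.card K) (k - finrank K W) * x ^ finrank K W * z ^ (k - finrank K W) =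
      ∏ i ∈ range k, (x - (Fintype.card K : ℤ) ^ i * z)) ∧
    (∑ W : Submodule K V,
        cval (Fintype.card K) (k - finrank K W) * (finrank K W : ℤ) * x ^ finrank K W * z ^ (k - finrank K W) =
      dval (Fintype.card K) k x z) := by
  have hinv : invs (1 : End K V) = Finset.univ :=
    Finset.eq_univ_of_forall fun W => mem_invs.2 fun v hv => hv
  have hmon : (X - C (1 : K)).Monic := monic_X_sub_C 1
  have hfX : ¬ (X - C (1 : K)) ∣ X := by
    rw [dvd_iff_isRoot]
    simp
  have h := weighted_sums hmon (irreducible_X_sub_C (1 : K)) hfX k (1 : End K V) (fun W => k - finrank K W)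
    (fun W => finrank K W) (by simp) (by rw [natDegree_X_sub_C, one_mul, hk])
    (fun W _ => ⟨by rw [natDegree_X_sub_C, one_mul], by have := W.finrank_le; omega⟩) x z
  rw [natDegree_X_sub_C, pow_one, Nat.card_eq_fintype_card, hinv] at h
  exact h

/-- The weight attached to a nilpotent endomorphism. -/
noncomputable def hval (N : End K V) : ℤ := pval (Fintype.card K) (finrank K (LinearMap.ker N) - 1)

/-- The weight and zero as sums over the subspaces containing the image. -/
theorem hval_eq_sum [Fintype (Submodule K V)] {N : End K V} (hN : IsNilpotent N) (hV : 1 ≤ finrank K V)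
    [DecidablePred fun W : Submodule K V => LinearMap.range N ≤ W] :
    (∑ W ∈ Finset.univ.filter (fun W : Submodule K V => LinearMap.range N ≤ W),
      cval (Fintype.card K) (finrank K V - finrank K W) * (finrank K W : ℤ) = hval N) ∧
    ∑ W ∈ Finset.univ.filter (fun W : Submodule K V => LinearMap.range N ≤ W),
      cval (Fintype.card K) (finrank K V - finrank K W) = 0 := by
  classical
  have hmon : (X - C (1 : K)).Monic := monic_X_sub_C 1
  have hf := irreducible_X_sub_C (1 : K)
  have hfX : ¬ (X - C (1 : K)) ∣ X := by
    rw [dvd_iff_isRoot]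
    simp
  set g : End K V := 1 + N with hg
  have hT : aeval g (X - C (1 : K)) = N := by simp [hg]
  obtain ⟨m, hm⟩ := hN
  obtain ⟨j, hj, -, hjd⟩ := charpoly_eq_pow hmon hf (g := g) (k := m) (by rw [hT, hm])
  rw [natDegree_X_sub_C, one_mul] at hjd
  obtain ⟨l, hl, hsum⟩ := sum_mu_mul_kk hmon hf hfX hj (by omega)
  rw [natDegree_X_sub_C, one_mul, hT] at hl
  have hmem : Finset.univ.filter (fun W : Submodule K V => LinearMap.range N ≤ W) =
      (invs g).filter (fun W => LinearMap.range (aeval g (X - C (1 : K))) ≤ W) := by
    ext W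
    simp only [Finset.mem_filter, Finset.mem_univ, true_and, hT, mem_invs]
    refine ⟨fun h => ⟨fun v hv => ?_, h⟩, fun h => h.2⟩
    rw [hg, LinearMap.add_apply, End.one_apply]
    exact W.add_mem hv (h ⟨v, rfl⟩)
  have hmu : ∀ W ∈ Finset.univ.filter (fun W : Submodule K V => LinearMap.range N ≤ W),
      mu g W = cval (Fintype.card K) (finrank K V - finrank K W) := by
    intro W hW
    rw [hmem, Finset.mem_filter] at hW
    have := W.finrank_le
    rw [mu_eq_cval hmon hf hfX hW.1 hW.2 (j := finrank K V - finrank K W)
      (by rw [natDegree_X_sub_C, one_mul]; omega), natDegree_X_sub_C, pow_one, Nat.card_eq_fintype_card]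
  constructor
  · rw [Finset.sum_congr rfl (fun W hW => by rw [← hmu W hW]), hmem, Finset.sum_filter_of_ne (fun W hW hne => by
      by_contra hRW
      exact hne (by rw [mu_eq_zero (k := m) (by rw [hT, hm]) W hW hRW, zero_mul]))]
    simp only [natDegree_X_sub_C, Nat.div_one, pow_one, Nat.card_eq_fintype_card] at hsum
    rw [hsum, hval, pval, ← hl, Nat.add_sub_cancel]
  · rw [← Finset.sum_congr rfl hmu, hmem, Finset.sum_filter_of_ne (fun W hW hne => by
      by_contra hRW
      exact hne (mu_eq_zero (k := m) (by rw [hT, hm]) W hW hRW))]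
    have hne : (⊥ : Submodule K V) ≠ ⊤ := fun h => by
      have := congrArg (fun W : Submodule K V => finrank K W) h
      simp only [finrank_bot, finrank_top] at this
      omega
    exact (isMu_mu g).2 ⊥ (bot_mem_invs g) hne (invs g) (fun W => by simp)

/-- The map attached to a complement. -/
noncomputable def glue {W W' : Submodule K V} (hc : IsCompl W W') (M : End K W) (X : W' →ₗ[K] W) : End K V :=
  (W.subtype ∘ₗ M ∘ₗ W.projectionOnto W' hc) + (W.subtype ∘ₗ X ∘ₗ W'.projectionOnto W hc.symm)

theorem glue_apply_left {W W' : Submodule K V} (hc : IsCompl W W') (M : End K W) (X : W' →ₗ[K] W) (w : W) :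
    glue hc M X w = M w := by
  simp [glue]

theorem glue_apply_right {W W' : Submodule K V} (hc : IsCompl W W') (M : End K W) (X : W' →ₗ[K] W) (w : W') :
    glue hc M X w = X w := by
  simp [glue]

theorem range_glue_le {W W' : Submodule K V} (hc : IsCompl W W') (M : End K W) (X : W' →ₗ[K] W) :
    LinearMap.range (glue hc M X) ≤ W := by
  rintro _ ⟨v, rfl⟩
  simp only [glue, LinearMap.add_apply, LinearMap.comp_apply, Submodule.subtype_apply]
  exact W.add_mem (Subtype.prop _) (Subtype.prop _)

theorem glue_pow {W W' : Submodule K V} (hc : IsCompl W W') (M : End K W) (X : W' →ₗ[K] W) :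
    ∀ (i : ℕ) (w : W), ((glue hc M X) ^ i) w = ((M ^ i) w : W) := by
  intro i
  induction i with
  | zero => intro w; simp
  | succ i ih => intro w; rw [pow_succ, End.mul_apply, glue_apply_left, ih, pow_succ, End.mul_apply]

theorem isNilpotent_glue_iff {W W' : Submodule K V} (hc : IsCompl W W') (M : End K W) (X : W' →ₗ[K] W) :
    IsNilpotent (glue hc M X) ↔ IsNilpotent M := by
  constructor
  · rintro ⟨m, hm⟩
    refine ⟨m, LinearMap.ext fun w => Subtype.ext ?_⟩
    rw [← glue_pow hc M X, hm]
    rfl
  · rintro ⟨m, hm⟩
    refine ⟨m + 1, LinearMap.ext fun v => ?_⟩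
    rw [pow_succ, End.mul_apply]
    have h := range_glue_le hc M X (LinearMap.mem_range_self _ v)
    rw [show glue hc M X v = ((⟨_, h⟩ : W) : V) from rfl, glue_pow, hm]
    rfl

/-- Endomorphisms with image in a subspace. -/
theorem sum_nilpotent_range_le [Fintype (End K V)] (W W' : Submodule K V) (hc : IsCompl W W')
    [Fintype (End K W)] [Fintype (W' →ₗ[K] W)] {R : Type*} [AddCommMonoid R] (φ : End K V → R)
    [DecidablePred fun N : End K V => IsNilpotent N ∧ LinearMap.range N ≤ W]
    [DecidablePred fun M : End K W => IsNilpotent M] :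
    ∑ N ∈ Finset.univ.filter (fun N : End K V => IsNilpotent N ∧ LinearMap.range N ≤ W), φ N =
      ∑ M ∈ Finset.univ.filter (fun M : End K W => IsNilpotent M), ∑ X : W' →ₗ[K] W, φ (glue hc M X) := by
  classical
  rw [← Finset.sum_product']
  symm
  refine Finset.sum_bij' (fun p _ => glue hc p.1 p.2)
    (fun N hN => ((N.domRestrict W).codRestrict W fun w => (Finset.mem_filter.1 hN).2.2 ⟨w, rfl⟩,
      (N.domRestrict W').codRestrict W fun w => (Finset.mem_filter.1 hN).2.2 ⟨w, rfl⟩))
    (fun p hp => ?_) (fun N hN => ?_) (fun p hp => ?_) (fun N hN => ?_) (fun p hp => rfl)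
  · simp only [Finset.mem_product, Finset.mem_filter, Finset.mem_univ, true_and, and_true] at hp
    exact Finset.mem_filter.2 ⟨Finset.mem_univ _, (isNilpotent_glue_iff hc _ _).2 hp, range_glue_le hc _ _⟩
  · simp only [Finset.mem_product, Finset.mem_filter, Finset.mem_univ, true_and, and_true]
    obtain ⟨-, ⟨m, hm⟩, hr⟩ := Finset.mem_filter.1 hN
    refine ⟨m, LinearMap.ext fun w => Subtype.ext ?_⟩
    have h : ∀ (i : ℕ) (w : W), ((((N.domRestrict W).codRestrict W fun w => hr ⟨w, rfl⟩) ^ i) w : W) =
        (N ^ i) (w : V) := by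
      intro i
      induction i with
      | zero => intro w; simp
      | succ i ih => intro w; rw [pow_succ, End.mul_apply, ih, pow_succ, End.mul_apply]; rfl
    rw [h, hm]
    rfl
  · refine Prod.ext (LinearMap.ext fun w => Subtype.ext ?_) (LinearMap.ext fun w => Subtype.ext ?_)
    · exact glue_apply_left hc p.1 p.2 w
    · exact glue_apply_right hc p.1 p.2 w
  · refine LinearMap.ext fun v => ?_
    obtain ⟨a, ha, b, hb, rfl⟩ := Submodule.mem_sup.1 (hc.sup_eq_top ▸ Submodule.mem_top (x := v))
    rw [map_add, map_add, glue_apply_left hc _ _ ⟨a, ha⟩, glue_apply_right hc _ _ ⟨b, hb⟩]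
    rfl

universe u

/-- The number of nilpotent endomorphisms. -/
theorem card_nilpotent : ∀ (k : ℕ) {V : Type u} [AddCommGroup V] [Module K V] [Fintype V], finrank K V = k →
    (Nat.card {N : End K V // IsNilpotent N} : ℤ) = (Fintype.card K : ℤ) ^ (k * (k - 1)) := by
  classical
  intro k
  induction k using Nat.strong_induction_on with
  | _ k ih =>
    intro V _ _ _ hk
    rcases Nat.eq_zero_or_pos k with rfl | hpos
    · have : Subsingleton V := finrank_zero_iff.1 hk
      have : Nonempty {N : End K V // IsNilpotent N} := ⟨⟨0, IsNilpotent.zero⟩⟩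
      simp [Nat.card_unique]
    have : Fintype (End K V) := Fintype.ofFinite _
    have : Fintype (Submodule K V) := Fintype.ofFinite _
    set Nil := Finset.univ.filter (fun N : End K V => IsNilpotent N)
    have hzero : ∑ W : Submodule K V, cval (Fintype.card K) (k - finrank K W) *
        ((Finset.univ.filter (fun N : End K V => IsNilpotent N ∧ LinearMap.range N ≤ W)).card : ℤ) = 0 := by
      have : ∑ N ∈ Nil, ∑ W ∈ Finset.univ.filter (fun W : Submodule K V => LinearMap.range N ≤ W),
          cval (Fintype.card K) (k - finrank K W) = 0 :=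
        Finset.sum_eq_zero fun N hN => by
          rw [← hk]
          exact (hval_eq_sum (Finset.mem_filter.1 hN).2 (by omega)).2
      simp only [Finset.sum_filter] at this
      rw [Finset.sum_comm] at this
      rw [← this]
      refine Finset.sum_congr rfl fun W _ => ?_
      rw [← Finset.sum_filter, Finset.sum_const, Finset.filter_filter, nsmul_eq_mul, mul_comm]
    have hG := (sum_all_submodules (V := V) ((Fintype.card K : ℤ) ^ (k - 1)) 1 hk).1
    rw [Finset.prod_eq_zero (i := k - 1) (Finset.mem_range.2 (by omega)) (by simp)] at hG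
    rw [← hG, ← Finset.add_sum_erase _ _ (Finset.mem_univ ⊤), ← Finset.add_sum_erase _ _ (Finset.mem_univ ⊤)] at hzero
    have hrest : ∀ W ∈ (Finset.univ : Finset (Submodule K V)).erase ⊤,
        cval (Fintype.card K) (k - finrank K W) *
          ((Finset.univ.filter (fun N : End K V => IsNilpotent N ∧ LinearMap.range N ≤ W)).card : ℤ) =
        cval (Fintype.card K) (k - finrank K W) * ((Fintype.card K : ℤ) ^ (k - 1)) ^ finrank K W *
          (1 : ℤ) ^ (k - finrank K W) := by
      intro W hW
      rw [one_pow, mul_one, ← pow_mul]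
      congr 1
      obtain ⟨W', hc⟩ := W.exists_isCompl
      have hlt : finrank K W < k := hk ▸ Submodule.finrank_lt (Finset.mem_erase.1 hW).1
      have : Fintype W := Fintype.ofFinite _
      have : Fintype (End K W) := Fintype.ofFinite _
      have : Fintype (W' →ₗ[K] W) := Fintype.ofFinite _
      rw [Finset.card_eq_sum_ones, Nat.cast_sum, sum_nilpotent_range_le W W' hc, Finset.sum_const,
        Finset.sum_const, Finset.card_univ, ← Fintype.card_subtype, Fintype.card_eq_nat_card,
        Fintype.card_eq_nat_card, Module.natCard_eq_pow_finrank (K := K) (V := W' →ₗ[K] W),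
        Module.finrank_linearMap, smul_smul, nsmul_eq_mul, Nat.cast_one, mul_one, Nat.cast_mul, Nat.cast_pow,
        ih _ hlt rfl, Nat.card_eq_fintype_card, ← pow_add]
      congr 1
      have := Submodule.finrank_add_eq_of_isCompl hc
      obtain ⟨j, hj⟩ : ∃ j, finrank K W' = j + 1 := ⟨finrank K W' - 1, by omega⟩
      rw [hj, show k - 1 = finrank K W + j by omega]
      rcases Nat.eq_zero_or_pos (finrank K W) with h | h
      · simp [h]
      · obtain ⟨m, hm⟩ : ∃ m, finrank K W = m + 1 := ⟨finrank K W - 1, by omega⟩
        rw [hm, Nat.add_sub_cancel]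
        ring
    rw [Finset.sum_congr rfl hrest, add_left_inj, finrank_top, hk, Nat.sub_self] at hzero
    simp only [cval, le_top, and_true, Nat.choose_zero_succ, pow_zero, mul_one, one_mul, ← pow_mul] at hzero
    rw [Nat.card_eq_fintype_card, Fintype.card_subtype]
    rw [mul_comm (k - 1) k] at hzero
    exact hzero

/-- The two sums over nilpotent endomorphisms. -/
theorem sum_hval [Fintype (End K V)] [DecidablePred fun N : End K V => IsNilpotent N] {k : ℕ}
    (hk : finrank K V = k + 1) :
    (∑ N ∈ Finset.univ.filter (fun N : End K V => IsNilpotent N), hval N =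
      (Fintype.card K : ℤ) ^ k * ∏ i ∈ range k, ((Fintype.card K : ℤ) ^ k - (Fintype.card K : ℤ) ^ i)) ∧
    ∑ N ∈ Finset.univ.filter (fun N : End K V => IsNilpotent N), hval N * hval N =
      (k + 1 : ℤ) * ∑ N ∈ Finset.univ.filter (fun N : End K V => IsNilpotent N), hval N := by
  classical
  have : Fintype (Submodule K V) := Fintype.ofFinite _
  set Q : ℤ := (Fintype.card K : ℤ)
  have key : ∀ ψ : End K V → ℤ, ∑ N ∈ Finset.univ.filter (fun N : End K V => IsNilpotent N), hval N * ψ N =
      ∑ W : Submodule K V, cval Q (finrank K V - finrank K W) * (finrank K W : ℤ) *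
        ∑ N ∈ Finset.univ.filter (fun N : End K V => IsNilpotent N ∧ LinearMap.range N ≤ W), ψ N := by
    intro ψ
    rw [Finset.sum_congr rfl (fun N hN => by
      rw [← (hval_eq_sum (Finset.mem_filter.1 hN).2 (by omega)).1, Finset.sum_mul, Finset.sum_filter]),
      Finset.sum_comm]
    refine Finset.sum_congr rfl fun W _ => ?_
    rw [← Finset.sum_filter, Finset.filter_filter, Finset.mul_sum]
  constructor
  · rw [Finset.sum_congr rfl (fun N _ => (mul_one (hval N)).symm), key (fun _ => 1)]
    have hD := (sum_all_submodules (V := V) (Q ^ k) 1 hk).2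
    rw [dval_root Q k _ 1 (by rw [mul_one])] at hD
    simp only [mul_one] at hD
    rw [← hD]
    refine Finset.sum_congr rfl fun W _ => ?_
    rw [hk, one_pow, mul_one]
    congr 1
    obtain ⟨W', hc⟩ := W.exists_isCompl
    have : Fintype W := Fintype.ofFinite _
    have : Fintype (End K W) := Fintype.ofFinite _
    have : Fintype (W' →ₗ[K] W) := Fintype.ofFinite _
    rw [sum_nilpotent_range_le W W' hc, Finset.sum_const,
      Finset.sum_const, Finset.card_univ, ← Fintype.card_subtype, Fintype.card_eq_nat_card,
      Fintype.card_eq_nat_card, Module.natCard_eq_pow_finrank (K := K) (V := W' →ₗ[K] W),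
      Module.finrank_linearMap, smul_smul, nsmul_eq_mul, mul_one, Nat.cast_mul, Nat.cast_pow,
      card_nilpotent _ rfl, Nat.card_eq_fintype_card, ← pow_add, ← pow_mul]
    congr 1
    have := Submodule.finrank_add_eq_of_isCompl hc
    rcases Nat.eq_zero_or_pos (finrank K W) with h | h
    · simp [h]
    · obtain ⟨m, hm⟩ : ∃ m, finrank K W = m + 1 := ⟨finrank K W - 1, by omega⟩
      rw [hm, Nat.add_sub_cancel, show k = m + finrank K W' by omega]
      ring
  · rw [key hval, Finset.sum_eq_single ⊤]
    · rw [finrank_top, Nat.sub_self, hk]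
      simp [cval]
    · intro W _ hW
      rcases Nat.eq_zero_or_pos (finrank K W) with h0 | h0
      · simp [h0]
      rw [mul_eq_zero]
      right
      obtain ⟨W', hc⟩ := W.exists_isCompl
      have : Fintype W := Fintype.ofFinite _
      have : Fintype (End K W) := Fintype.ofFinite _
      have : Fintype (W' →ₗ[K] W) := Fintype.ofFinite _
      rw [sum_nilpotent_range_le W W' hc]
      refine Finset.sum_eq_zero fun M hM => ?_
      obtain ⟨-, m, hm⟩ := Finset.mem_filter.1 hM
      set R := LinearMap.range M
      have hRne : R ≠ ⊤ := by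
        intro htop
        have h1 : ∀ i, LinearMap.range (M ^ i) = ⊤ := fun i => by
          induction i with
          | zero => simp [End.one_eq_id]
          | succ i ih => rw [pow_succ', End.mul_eq_comp, LinearMap.range_comp, ih, Submodule.map_top]; exact htop
        have h2 := h1 m
        rw [hm, LinearMap.range_zero] at h2
        have h3 : finrank K W = 0 := by rw [← finrank_top K W, ← h2, finrank_bot]
        omega
      have hq := R.finrank_quotient_add_finrank
      have hlt := Submodule.finrank_lt hRne
      have hW' : 1 ≤ finrank K W' := by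
        have := Submodule.finrank_add_eq_of_isCompl hc
        have := Submodule.finrank_lt hW
        omega
      have : Fintype (W ⧸ R) := Fintype.ofFinite _
      have : Fintype (W' →ₗ[K] (W ⧸ R)) := Fintype.ofFinite _
      let π : (W' →ₗ[K] W) →ₗ[K] (W' →ₗ[K] (W ⧸ R)) :=
        LinearMap.llcomp K W' W (W ⧸ R) R.mkQ
      have hπ : Function.Surjective π := by
        intro ψ
        obtain ⟨s, hs⟩ := LinearMap.exists_rightInverse_of_surjective R.mkQ (Submodule.range_mkQ R)
        exact ⟨s.comp ψ, by rw [LinearMap.llcomp_apply', ← LinearMap.comp_assoc, hs, LinearMap.id_comp]⟩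
      have hrank : ∀ X : W' →ₗ[K] W, hval (glue hc M X) =
          pval Q (finrank K W' + finrank K (W ⧸ R) - 1 - finrank K (LinearMap.range (π X))) := by
        intro X
        rw [hval]
        have h1 := LinearMap.finrank_range_add_finrank_ker (glue hc M X)
        have h2 : LinearMap.range (glue hc M X) = (R ⊔ LinearMap.range X).map W.subtype := by
          refine le_antisymm ?_ ?_
          · rintro _ ⟨v, rfl⟩
            obtain ⟨a, ha, b, hb, rfl⟩ := Submodule.mem_sup.1 (hc.sup_eq_top ▸ Submodule.mem_top (x := v))
            refine ⟨M ⟨a, ha⟩ + X ⟨b, hb⟩, Submodule.add_mem_sup ⟨_, rfl⟩ ⟨_, rfl⟩, ?_⟩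
            rw [map_add, map_add, glue_apply_left hc M X ⟨a, ha⟩, glue_apply_right hc M X ⟨b, hb⟩]
            rfl
          · rw [Submodule.map_sup, sup_le_iff]
            constructor
            · rintro _ ⟨_, ⟨w, rfl⟩, rfl⟩
              exact ⟨w, glue_apply_left hc M X w⟩
            · rintro _ ⟨_, ⟨w, rfl⟩, rfl⟩
              exact ⟨w, glue_apply_right hc M X w⟩
        rw [h2, Submodule.finrank_map_subtype_eq] at h1
        have h3 : finrank K (LinearMap.range (π X)) + finrank K R = finrank K (R ⊔ LinearMap.range X : Submodule K W) := by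
          have h4 := LinearMap.finrank_range_add_finrank_ker (R.mkQ.domRestrict (R ⊔ LinearMap.range X))
          rw [LinearMap.range_domRestrict, LinearMap.ker_domRestrict, Submodule.ker_mkQ,
            (Submodule.comapSubtypeEquivOfLe (le_sup_left : R ≤ R ⊔ LinearMap.range X)).finrank_eq,
            Submodule.map_sup, Submodule.mkQ_map_self, bot_sup_eq, ← LinearMap.range_comp] at h4
          exact h4
        have := Submodule.finrank_add_eq_of_isCompl hc
        congr 1
        omega
      rw [Finset.sum_congr rfl (fun X _ => hrank X),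
        ← Finset.sum_fiberwise_of_maps_to (g := fun X => π X) (t := Finset.univ) (fun X _ => Finset.mem_univ _)]
      rw [Finset.sum_congr rfl (g := fun ψ => (Nat.card (LinearMap.ker π) : ℤ) *
        pval Q (finrank K W' + finrank K (W ⧸ R) - 1 - finrank K (LinearMap.range ψ))) fun ψ _ => ?_,
        ← Finset.mul_sum, sum_pval_linearMap hW' (by omega), mul_zero]
      rw [Finset.sum_congr rfl (g := fun _ => pval Q (finrank K W' + finrank K (W ⧸ R) - 1 - finrank K (LinearMap.range ψ)))
        (fun X hX => by rw [(Finset.mem_filter.1 hX).2]), Finset.sum_const, nsmul_eq_mul]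
      congr 1
      obtain ⟨X0, hX0⟩ := hπ ψ
      rw [← Fintype.card_subtype, Fintype.card_eq_nat_card]
      congr 1
      refine Nat.card_congr
        { toFun := fun X => ⟨X.1 - X0, by rw [LinearMap.mem_ker, map_sub, X.2, hX0, sub_self]⟩
          invFun := fun X => ⟨X.1 + X0, by rw [map_add, LinearMap.mem_ker.1 X.2, hX0, zero_add]⟩
          left_inv := fun X => by simp
          right_inv := fun X => by simp }
    · intro h; exact absurd (Finset.mem_univ _) h

end CfsgLib.CuspidalGL
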