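import Cfsg.Agent.Lib.CuspidalGL.Isotypic
import Cfsg.Agent.Lib.CuspidalGL.Lift

/-! The values of the alternating sum of Brauer lifts over invariant subspaces. -/

set_option autoImplicit false

namespace CfsgLib.CuspidalGL

open Module Finset Polynomial UniqueFactorizationMonoid CfsgLib.SteinbergValues

variable {F : Type*} [Field F] {V : Type*} [AddCommGroup V] [Module F V]

/-- The characteristic polynomial on an invariant subspace. -/
noncomputable def charOn [Finite V] (g : End F V) (W : Submodule F V) : F[X] :=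
  haveI := Classical.propDecidable (∀ v ∈ W, g v ∈ W)
  if h : ∀ v ∈ W, g v ∈ W then (g.restrict h).charpoly else 1

theorem charOn_eq [Finite V] {g : End F V} {W : Submodule F V} (h : ∀ v ∈ W, g v ∈ W) :
    charOn g W = (g.restrict h).charpoly := by
  rw [charOn, dif_pos h]

theorem charOn_ne_zero [Finite V] (g : End F V) (W : Submodule F V) : charOn g W ≠ 0 := by
  rw [charOn]
  split_ifs with h
  · exact (LinearMap.charpoly_monic _).ne_zero
  · exact one_ne_zero

theorem charOn_top [Finite V] (g : End F V) : charOn g ⊤ = g.charpoly := by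
  rw [charOn_eq (fun v _ => Submodule.mem_top)]
  rw [← LinearEquiv.charpoly_conj (Submodule.topEquiv : (⊤ : Submodule F V) ≃ₗ[F] V)]
  congr 1

theorem coe_aeval_restrict {g : End F V} {W : Submodule F V} (h : ∀ v ∈ W, g v ∈ W) (P : F[X]) :
    ∀ v : W, ((aeval (g.restrict h) P v : W) : V) = aeval g P v := by
  induction P using Polynomial.induction_on' with
  | add P Q hP hQ => intro v; simp [hP, hQ]
  | monomial i a =>
    induction i with
    | zero => intro v; simp [monomial_zero_left, Module.algebraMap_end_apply]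
    | succ i ih =>
      intro v
      rw [← monomial_mul_X, map_mul, map_mul, End.mul_apply, End.mul_apply, ih, aeval_X, aeval_X]
      rfl

/-- The characteristic polynomial of a direct sum of invariant subspaces. -/
theorem charOn_sup [Finite V] {g : End F V} {W A B : Submodule F V} (hA : ∀ v ∈ A, g v ∈ A)
    (hB : ∀ v ∈ B, g v ∈ B) (hW : W = A ⊔ B) (hAB : A ⊓ B = ⊥) : charOn g W = charOn g A * charOn g B := by
  have hWinv : ∀ v ∈ W, g v ∈ W := by
    intro v hv
    rw [hW] at hv ⊢
    obtain ⟨a, ha, b, hb, rfl⟩ := Submodule.mem_sup.1 hv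
    rw [map_add]
    exact Submodule.add_mem_sup (hA a ha) (hB b hb)
  let e₀ : (A × B) →ₗ[F] W :=
    (Submodule.inclusion (show A ≤ W from hW ▸ le_sup_left)).coprod
      (Submodule.inclusion (show B ≤ W from hW ▸ le_sup_right))
  have hinj : Function.Injective e₀ := by
    rw [injective_iff_map_eq_zero]
    rintro ⟨a, b⟩ h
    have h' : (a : V) + b = 0 := congrArg Subtype.val h
    have ha : (a : V) ∈ A ⊓ B := ⟨a.2, by rw [eq_neg_of_add_eq_zero_left h']; exact B.neg_mem b.2⟩
    rw [hAB, Submodule.mem_bot] at ha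
    rw [ha, zero_add] at h'
    exact Prod.ext (Subtype.ext ha) (Subtype.ext h')
  have hsurj : Function.Surjective e₀ := by
    rintro ⟨w, hw⟩
    rw [hW] at hw
    obtain ⟨a, ha, b, hb, rfl⟩ := Submodule.mem_sup.1 hw
    exact ⟨(⟨a, ha⟩, ⟨b, hb⟩), rfl⟩
  let e := LinearEquiv.ofBijective e₀ ⟨hinj, hsurj⟩
  rw [charOn_eq hWinv, charOn_eq hA, charOn_eq hB, ← LinearMap.charpoly_prodMap, ← LinearEquiv.charpoly_conj e]
  congr 1
  refine LinearMap.ext fun v => ?_
  obtain ⟨x, rfl⟩ := e.surjective v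
  simp only [LinearEquiv.conj_apply, LinearMap.comp_apply, LinearEquiv.coe_coe, e.symm_apply_apply]
  apply Subtype.ext
  show g ((x.1 : V) + x.2) = g x.1 + g x.2
  exact map_add g _ _

theorem kk_spec [Finite V] [DecidableEq F] {g : End F V} {f : F[X]} (hmon : f.Monic) (hf : Irreducible f) {k : ℕ}
    (hk : (aeval g f) ^ k = 0) {W : Submodule F V} (hW : W ∈ invs g) :
    charOn g W = f ^ (finrank F W / f.natDegree) ∧ f.natDegree * (finrank F W / f.natDegree) = finrank F W := by
  have hk' : (aeval (g.restrict (mem_invs.1 hW)) f) ^ k = 0 := by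
    refine LinearMap.ext fun v => Subtype.ext ?_
    rw [← map_pow, coe_aeval_restrict, map_pow, hk]
    rfl
  obtain ⟨j, h1, -, h2⟩ := charpoly_eq_pow hmon hf hk'
  have hj : finrank F W / f.natDegree = j := by rw [← h2, Nat.mul_div_cancel_left _ hf.natDegree_pos]
  rw [charOn_eq (mem_invs.1 hW), hj]
  exact ⟨h1, h2⟩

variable {L : Type*} [Field L] [Fintype L] [Algebra F L]

/-- The alternating sum of lifts. -/
noncomputable def lusztigSum [Finite V] (θ : MulChar L ℂ) (g : End F V) : ℂ :=
  ∑ W ∈ invs g, (mu g W : ℂ) * liftPoly θ (charOn g W)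

variable [Fintype F] [DecidableEq F]

theorem liftPoly_pow (θ : MulChar L ℂ) {f : F[X]} (hf : f ≠ 0) (k : ℕ) :
    liftPoly θ (f ^ k) = k * liftPoly θ f := by
  induction k with
  | zero => simp [liftPoly_one]
  | succ k ih =>
    rw [pow_succ, liftPoly_mul θ (mul_ne_zero (pow_ne_zero _ hf) hf), ih]
    push_cast
    ring

/-- The sum vanishes unless the characteristic polynomial is a power of an irreducible. -/
theorem lusztigSum_eq_zero [Finite V] (θ : MulChar L ℂ) (g : End F V)
    (h : ∀ f : F[X], f.Monic → Irreducible f → ∀ j, g.charpoly ≠ f ^ j) : lusztigSum θ g = 0 := by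
  classical
  have hne := (LinearMap.charpoly_monic g).ne_zero
  have hnu : ¬ IsUnit g.charpoly := fun hu =>
    h X monic_X irreducible_X 0 (by rw [pow_zero]; exact (LinearMap.charpoly_monic g).eq_one_of_isUnit hu)
  obtain ⟨f, hmon, hf, hdvd⟩ := Polynomial.exists_monic_irreducible_factor _ hnu
  obtain ⟨m, R, hR, hPR⟩ := WfDvdMonoid.max_power_factor hne hf
  have hm : m ≠ 0 := by
    rintro rfl
    rw [pow_zero, one_mul] at hPR
    exact hR (hPR ▸ hdvd)
  have hmonR : R.Monic := (hmon.pow m).of_mul_monic_left (hPR ▸ LinearMap.charpoly_monic g)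
  have hRnu : ¬ IsUnit R := fun hu =>
    h f hmon hf m (by rw [hPR, hmonR.eq_one_of_isUnit hu, mul_one])
  set P := f ^ m with hP
  have hcop : IsCoprime P R := (hf.coprime_iff_not_dvd.2 hR).pow_left
  have hCH : ∀ v, aeval g P (aeval g R v) = 0 ∧ aeval g R (aeval g P v) = 0 := fun v => by
    constructor <;> rw [← End.mul_apply, ← map_mul]
    · rw [← hPR, g.aeval_self_charpoly, LinearMap.zero_apply]
    · rw [mul_comm, ← hPR, g.aeval_self_charpoly, LinearMap.zero_apply]
  obtain ⟨a, b, hab⟩ := hcop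
  set H1 := LinearMap.ker (aeval g P)
  set H2 := LinearMap.ker (aeval g R)
  have hinv : ∀ Q : F[X], LinearMap.ker (aeval g Q) ∈ invs g := fun Q => mem_invs.2 fun v hv => by
    rw [LinearMap.mem_ker] at hv ⊢
    rw [← End.mul_apply, show aeval g Q * g = g * aeval g Q by
      have h := ((Commute.all Q X).map (aeval g)).eq
      rwa [aeval_X] at h, End.mul_apply, hv, map_zero]
  have hinf : H1 ⊓ H2 = ⊥ := (Submodule.eq_bot_iff _).2 fun v hv => by
    have h1 := congrArg (fun Q => aeval g Q v) hab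
    simp only [map_add, map_mul, LinearMap.add_apply, End.mul_apply, LinearMap.mem_ker.1 hv.1,
      LinearMap.mem_ker.1 hv.2, map_zero, add_zero, map_one, End.one_apply] at h1
    exact h1.symm
  have hsplit : ∀ W ∈ invs g, W = (W ⊓ H1) ⊔ (W ⊓ H2) := by
    intro W hW
    refine le_antisymm (fun v hv => ?_) (sup_le inf_le_left inf_le_left)
    have h1 := congrArg (fun Q => aeval g Q v) hab
    simp only [map_add, LinearMap.add_apply, map_one, End.one_apply] at h1
    rw [← h1, add_comm]
    refine Submodule.add_mem_sup ⟨aeval_mem (mem_invs.1 hW) _ _ hv, ?_⟩ ⟨aeval_mem (mem_invs.1 hW) _ _ hv, ?_⟩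
    · rw [SetLike.mem_coe, LinearMap.mem_ker, mul_comm b R, map_mul, End.mul_apply, (hCH _).1]
    · rw [SetLike.mem_coe, LinearMap.mem_ker, mul_comm a P, map_mul, End.mul_apply, (hCH _).2]
  have hne1 : ∀ {A B : F[X]}, IsCoprime A B → ¬ IsUnit B → B ∣ g.charpoly →
      LinearMap.ker (aeval g A) ≠ ⊤ := by
    intro A B hAB hB hBd htop
    obtain ⟨f', hmon', hf', hfd'⟩ := Polynomial.exists_monic_irreducible_factor _ hB
    obtain ⟨v, hv0, hv⟩ := Semisimple.exists_kernel_vector g f' hf' (hfd'.trans hBd)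
    obtain ⟨c, e, hce⟩ := hAB.of_isCoprime_of_dvd_right hfd'
    have h1 := congrArg (fun Q => aeval g Q v) hce
    have hA : aeval g A v = 0 := LinearMap.mem_ker.1 (htop ▸ Submodule.mem_top)
    simp [hA, hv] at h1
    exact hv0 h1.symm
  have hH1 : H1 ≠ ⊤ := hne1 ⟨a, b, hab⟩ hRnu ⟨P, by rw [hPR, mul_comm]⟩
  have hH2 : H2 ≠ ⊤ := hne1 ⟨b, a, by rw [add_comm, hab]⟩
    (fun hu => hf.not_isUnit (isUnit_of_dvd_unit (dvd_pow_self f hm) hu)) ⟨R, hPR⟩
  have hsum : lusztigSum θ g =
      (∑ W ∈ invs g, (mu g W : ℂ) * liftPoly θ (charOn g (W ⊓ H1))) +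
        ∑ W ∈ invs g, (mu g W : ℂ) * liftPoly θ (charOn g (W ⊓ H2)) := by
    rw [← Finset.sum_add_distrib]
    refine Finset.sum_congr rfl fun W hW => ?_
    rw [← mul_add, ← liftPoly_mul θ (mul_ne_zero (charOn_ne_zero _ _) (charOn_ne_zero _ _)),
      ← charOn_sup (mem_invs.1 (inf_mem_invs hW (hinv P))) (mem_invs.1 (inf_mem_invs hW (hinv R))) (hsplit W hW)
        (le_bot_iff.1 (hinf ▸ inf_le_inf inf_le_right inf_le_right))]
  rw [hsum, sum_mu_mul_inf (hinv P) hH1 (fun W => liftPoly θ (charOn g W)),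
    sum_mu_mul_inf (hinv R) hH2 (fun W => liftPoly θ (charOn g W)), add_zero]

/-- The weighted Möbius sum of a primary endomorphism. -/
theorem sum_mu_mul_kk [Finite V] {g : End F V} {f : F[X]} (hmon : f.Monic) (hf : Irreducible f) (hfX : ¬ f ∣ X)
    {j : ℕ} (hj : g.charpoly = f ^ j) (hj0 : 0 < j) :
    ∃ l, f.natDegree * (l + 1) = finrank F (LinearMap.ker (aeval g f)) ∧
      ∑ W ∈ invs g, mu g W * (finrank F W / f.natDegree : ℕ) =
        ∏ i ∈ range l, (1 - ((Nat.card F : ℤ) ^ f.natDegree) ^ (i + 1)) := by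
  classical
  have hd := hf.natDegree_pos
  set Q : ℤ := (Nat.card F : ℤ) ^ f.natDegree with hQ
  have hk : (aeval g f) ^ j = 0 := by rw [← map_pow, ← hj, g.aeval_self_charpoly]
  set R := LinearMap.range (aeval g f) with hR
  have hRinv : R ∈ invs g := range_aeval_mem_invs g f
  obtain ⟨-, hRd⟩ := kk_spec hmon hf hk hRinv
  have hVd : f.natDegree * (finrank F V / f.natDegree) = finrank F V := by
    have h := (kk_spec hmon hf hk (mem_invs.2 fun v _ => trivial : (⊤ : Submodule F V) ∈ invs g)).2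
    rwa [finrank_top] at h
  have hfin : Finite (V ⧸ R) := Quotient.finite _
  let g' : End F (V ⧸ R) := R.mapQ R g fun v hv => mem_invs.1 hRinv v hv
  have hπg : ∀ v, R.mkQ (g v) = g' (R.mkQ v) := fun v => rfl
  have hpoly : ∀ (P : F[X]) (v : V), R.mkQ (aeval g P v) = aeval g' P (R.mkQ v) := by
    intro P
    induction P using Polynomial.induction_on' with
    | add P Q hP hQ => intro v; simp only [map_add, LinearMap.add_apply, hP, hQ]
    | monomial i a =>
      induction i with
      | zero => intro v; simp [monomial_zero_left, Module.algebraMap_end_apply]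
      | succ i ih =>
        intro v
        rw [← monomial_mul_X, map_mul, map_mul, End.mul_apply, End.mul_apply, ih, aeval_X, aeval_X, hπg]
  have h0 : aeval g' f = 0 := by
    refine LinearMap.ext fun x => ?_
    obtain ⟨v, rfl⟩ := R.mkQ_surjective x
    rw [← hpoly, LinearMap.zero_apply, Submodule.mkQ_apply, Submodule.Quotient.mk_eq_zero]
    exact ⟨v, rfl⟩
  obtain ⟨L', -, -, hL'⟩ := charpoly_eq_pow hmon hf (g := g') (k := 1) (by rw [pow_one, h0])
  have hq := R.finrank_quotient_add_finrank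
  have hrk := LinearMap.finrank_range_add_finrank_ker (aeval g f)
  rw [← hR] at hrk
  have hne : R ≠ ⊤ := by
    intro htop
    have h1 : ∀ i, LinearMap.range ((aeval g f) ^ i) = ⊤ := fun i => by
      induction i with
      | zero => simp [End.one_eq_id]
      | succ i ih => rw [pow_succ', End.mul_eq_comp, LinearMap.range_comp, ih, Submodule.map_top, ← hR, htop]
    have h2 := h1 j
    rw [hk, LinearMap.range_zero] at h2
    have h3 : finrank F V = 0 := by rw [← finrank_top, ← h2, finrank_bot]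
    rw [← LinearMap.charpoly_natDegree g, hj, hmon.natDegree_pow] at h3
    exact (Nat.mul_pos hj0 hd).ne' h3
  have hLpos : 0 < L' := Nat.pos_of_ne_zero fun h => by
    rw [h, mul_zero] at hL'
    have := Submodule.finrank_lt hne
    omega
  obtain ⟨l, rfl⟩ : ∃ l, L' = l + 1 := ⟨L' - 1, by omega⟩
  refine ⟨l, by omega, ?_⟩
  let kk : Submodule F (V ⧸ R) → ℕ := fun Y => finrank F Y / f.natDegree
  let jj : Submodule F (V ⧸ R) → ℕ := fun Y => (l + 1) - kk Y
  have hjk : ∀ Y ∈ invs g', f.natDegree * kk Y = finrank F Y ∧ kk Y + jj Y = l + 1 := by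
    intro Y hY
    have h1 := (kk_spec hmon hf (g := g') (k := 1) (by rw [pow_one, h0]) hY).2
    have h2 := Y.finrank_le
    have h3 : kk Y ≤ l + 1 := Nat.le_of_mul_le_mul_left (by rw [h1, hL']; exact h2) hd
    exact ⟨h1, show kk Y + (l + 1 - kk Y) = l + 1 by omega⟩
  have hG := weighted_sums hmon hf hfX (l + 1) g' jj kk h0 hL' hjk 1 1
  simp only [one_pow, mul_one] at hG
  rw [dval_one, Finset.prod_range_succ', pow_zero, sub_self, mul_zero] at hG
  have hbij : ∑ W ∈ invs g, mu g W * (finrank F W / f.natDegree : ℕ) =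
      ∑ Y ∈ invs g', cval Q (jj Y) * ((finrank F R / f.natDegree + kk Y : ℕ) : ℤ) := by
    rw [← Finset.sum_filter_of_ne (p := fun W => R ≤ W) (fun W hW hne' => by
      by_contra hRW
      exact hne' (by rw [mu_eq_zero hk W hW hRW, zero_mul]))]
    refine Finset.sum_bij' (fun W _ => W.map R.mkQ) (fun Y _ => Y.comap R.mkQ)
      (fun W hW => map_mem_invs hπg (Finset.mem_filter.1 hW).1)
      (fun Y hY => Finset.mem_filter.2 ⟨comap_mem_invs hπg hY, R.le_comap_mkQ Y⟩)
      (fun W hW => by rw [Submodule.comap_map_mkQ, sup_eq_right.2 (Finset.mem_filter.1 hW).2])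
      (fun Y hY => Submodule.map_comap_eq_of_surjective R.mkQ_surjective Y)
      (fun W hW => ?_)
    obtain ⟨hW1, hW2⟩ := Finset.mem_filter.1 hW
    have hd1 := (kk_spec hmon hf hk hW1).2
    have hdimW : finrank F W = finrank F R + finrank F (W.map R.mkQ) := by
      have h := LinearMap.finrank_range_add_finrank_ker (R.mkQ.domRestrict W)
      rw [LinearMap.range_domRestrict, LinearMap.ker_domRestrict, Submodule.ker_mkQ,
        (Submodule.comapSubtypeEquivOfLe hW2).finrank_eq] at h
      omega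
    obtain ⟨hd2, hd3⟩ := hjk _ (map_mem_invs hπg hW1)
    have hkW : finrank F W / f.natDegree = finrank F R / f.natDegree + kk (W.map R.mkQ) :=
      Nat.eq_of_mul_eq_mul_left hd (by rw [mul_add, hd1, hRd, hd2, hdimW])
    rw [hkW, mu_eq_cval hmon hf hfX hW1 hW2 (j := jj (W.map R.mkQ)) ?_]
    · have : f.natDegree * kk (W.map R.mkQ) + f.natDegree * jj (W.map R.mkQ) = f.natDegree * (l + 1) := by
        rw [← mul_add, hd3]
      omega
  rw [hbij]
  simp only [Nat.cast_add, mul_add, Finset.sum_add_distrib, ← Finset.sum_mul]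
  rw [hG.1, hG.2, zero_mul, zero_add]

/-- The value on primary endomorphisms. -/
theorem lusztigSum_primary [Finite V] (θ : MulChar L ℂ) {g : End F V} {f : F[X]} (hmon : f.Monic)
    (hf : Irreducible f) (hfX : ¬ f ∣ X) {j : ℕ} (hj : g.charpoly = f ^ j) (hj0 : 0 < j) :
    ∃ l, f.natDegree * (l + 1) = finrank F (LinearMap.ker (aeval g f)) ∧
      lusztigSum θ g = ((∏ i ∈ range l, (1 - ((Nat.card F : ℤ) ^ f.natDegree) ^ (i + 1)) : ℤ) : ℂ) * liftPoly θ f := by
  classical
  have hk : (aeval g f) ^ j = 0 := by rw [← map_pow, ← hj, g.aeval_self_charpoly]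
  obtain ⟨l, hl, hsum⟩ := sum_mu_mul_kk hmon hf hfX hj hj0
  refine ⟨l, hl, ?_⟩
  rw [← hsum, Int.cast_sum, Finset.sum_mul]
  refine Finset.sum_congr rfl fun W hW => ?_
  rw [(kk_spec hmon hf hk hW).1, liftPoly_pow θ hf.ne_zero, Int.cast_mul, Int.cast_natCast]
  ring

end CfsgLib.CuspidalGL
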